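import Groth.Agent.H22Alg.PB.Vanish
import Groth.Agent.H22Alg.HilbertFlat
import Groth.Agent.H22Alg.CMKer
import Groth.Agent.H22Alg.MumfordBound
import Groth.Agent.H10Coh.Proper2
import Groth.Prelude.Def_ega3

/-!
# Fibres of projective space over a locally Noetherian base
-/

set_option autoImplicit false
set_option linter.style.haveILetI false

universe u

open CategoryTheory CategoryTheory.Limits AlgebraicGeometry
open Groth.Agent Groth.Agent.H22Alg
open Groth.Agent.H25Theta (pb pT pC pI tI pO)
attribute [local instance 10000] Groth.Agent.H10Coh.hasSheafifyAb Groth.Agent.H10Coh.hasWeakSheafifyAb Groth.Agent.H10Coh.hasExtAb Groth.Agent.H10Coh.enoughInjAb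

namespace Groth.Agent.H17.QuotSch

noncomputable section

variable {n : ℕ} {T : Scheme.{u}} (t : T)

/-- The fibre of projective space at a point is projective space over the residue field. -/
theorem exists_fibre :
    ∃ j : CohB1.ProjSpace n (T.residueField t) ⟶ KRR.PY n T,
      IsPullback j (CohB1.ProjSpace.toSpec n (T.residueField t)) (KRR.pr n T) (T.fromSpecResidueField t) ∧
      ∀ d : ℤ, Nonempty ((Scheme.Modules.pullback j).obj (Twist.twistOver n T d) ≅
        Twist.twistProjSpace n (T.residueField t) d) := by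
  obtain ⟨a, ha, ha₁, ⟨σ⟩⟩ := PB.exists_affine_iso n (T.residueField t)
  haveI := ha
  let ψ := KRR.projSpaceMap n (T.fromSpecResidueField t)
  refine ⟨a ≫ ψ, ?_, fun d => ?_⟩
  · have hi : IsPullback a (CohB1.ProjSpace.toSpec n (T.residueField t))
        (KRR.pr n (Spec (CommRingCat.of (T.residueField t)))) (𝟙 _) :=
      IsPullback.of_horiz_isIso ⟨ha₁.trans (Category.comp_id _).symm⟩
    exact Category.id_comp (T.fromSpecResidueField t) ▸ hi.paste_horiz (KBaseChangeCl.isPullback_map _)
  · have hO : H10Coh.Stab.IsTwistFamily fun e => (Scheme.Modules.pullback (a ≫ ψ)).obj (Twist.twistOver n T e) :=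
      (PB.isTwistFamily_twistOver n T).pullback (a ≫ ψ)
    obtain ⟨e1⟩ := BCReg.nonempty_pull_twist (n := n) (T.fromSpecResidueField t) (1 : ℤ)
    exact PB.nonempty_family_iso hO (H10Coh.Stab.isTwistFamily_projSpace n (T.residueField t))
      ⟨((Scheme.Modules.pullbackComp a ψ).app _).symm ≪≫ (Scheme.Modules.pullback a).mapIso e1 ≪≫ σ⟩ d

variable [IsLocallyNoetherian T] {j : CohB1.ProjSpace n (T.residueField t) ⟶ KRR.PY n T}
  (hj : IsPullback j (CohB1.ProjSpace.toSpec n (T.residueField t)) (KRR.pr n T) (T.fromSpecResidueField t))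
  {F : (KRR.PY n T).Modules} (hF : Coh.IsCoh F)

include hj hF

theorem finrank_fiberH (p : ℕ) :
    CohIII.fiberRank (KRR.pr n T) F p t =
      Module.finrank (T.residueField t) (Coh.HH (CohB1.ProjSpace n (T.residueField t)) ((Scheme.Modules.pullback j).obj F) p) := by
  let K := T.residueField t
  let f := KRR.pr n T
  haveI := CMKer.isProper_pr n T
  letI : (f.fiber t).Over (Spec (CommRingCat.of K)) := ⟨f.fiberToSpecResidueField t⟩
  haveI : IsProper (f.fiber t ↘ Spec (CommRingCat.of K)) :=
    MorphismProperty.of_isPullback (IsPullback.of_hasPullback f (T.fromSpecResidueField t)) inferInstance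
  let e : CohB1.ProjSpace n K ≅ f.fiber t := hj.isoPullback
  have he : e.hom ≫ f.fiberι t = j := hj.isoPullback_hom_fst
  have hsq : IsPullback e.hom (CohB1.ProjSpace n K ↘ Spec (CommRingCat.of K)) (f.fiber t ↘ Spec (CommRingCat.of K))
      (Spec.map (CommRingCat.ofHom (algebraMap K K))) := by
    rw [show Spec.map (CommRingCat.ofHom (algebraMap K K)) = 𝟙 _ from Spec.map_id _]
    exact IsPullback.of_horiz_isIso ⟨by rw [Category.comp_id]; exact hj.isoPullback_hom_snd⟩
  rw [(H29RR.hhIso (k := K) ((pC e.hom (f.fiberι t) he F).symm) p).finrank_eq,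
    H28Int.FieldExt.finrank_HH_bc K hsq (H17.ConsProp.isCoh_pullback (f.fiberι t) hF) p]
  rfl

theorem subsingleton_fiberH (p : ℕ)
    (h : Subsingleton (Coh.HH (CohB1.ProjSpace n (T.residueField t)) ((Scheme.Modules.pullback j).obj F) p)) :
    Subsingleton (CohIII.fiberH (KRR.pr n T) F t p) := by
  let K := T.residueField t
  let f := KRR.pr n T
  haveI := CMKer.isProper_pr n T
  letI : (f.fiber t).Over (Spec (CommRingCat.of K)) := ⟨f.fiberToSpecResidueField t⟩
  haveI : IsProper (f.fiber t ↘ Spec (CommRingCat.of K)) :=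
    MorphismProperty.of_isPullback (IsPullback.of_hasPullback f (T.fromSpecResidueField t)) inferInstance
  haveI : Module.Finite K (CohIII.fiberH f F t p) :=
    H10Coh.finite_HH_proper K (f.fiber t) _ (H17.ConsProp.isCoh_pullback (f.fiberι t) hF) p
  refine (Module.finrank_zero_iff (R := K)).1 ?_
  show CohIII.fiberRank f F p t = 0
  rw [finrank_fiberH t hj hF p]
  exact Module.finrank_zero_of_subsingleton

theorem fibEuler_eq :
    HilbertFlat.fibEuler (KRR.pr n T) F t =
      Curv2.euler (T.residueField t) (CohB1.ProjSpace n (T.residueField t)) ((Scheme.Modules.pullback j).obj F) :=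
  finsum_congr fun p => congrArg (fun r : ℕ => (-1 : ℤ) ^ p * (r : ℤ)) (finrank_fiberH t hj hF p)

end

end Groth.Agent.H17.QuotSch
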