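import Groth.Agent.H17.QuotSch.Glue
import Groth.Agent.H11Tilde.TwistQuot
import Groth.Agent.H11Ample.AmpleOn

/-!
# Presentations by twists over an affine base
-/

set_option autoImplicit false
set_option linter.style.haveILetI false
set_option backward.isDefEq.respectTransparency false
set_option backward.isDefEq.respectTransparency.types false

universe u

open CategoryTheory CategoryTheory.Limits AlgebraicGeometry
open Groth.Agent Groth.Agent.H22Alg
open Groth.Agent.H25Theta (pb pT pC pI tI pO)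

namespace Groth.Agent.H17.QuotSch

noncomputable section

variable {n : ℕ} {S X : Scheme.{u}} (i : X ⟶ CohB1.ProjSpaceOver n S) [IsClosedImmersion i] [IsAffine S]

/-- Over an affine base coherent modules are quotients of sums of one twist. -/
theorem exists_presentation {E : X.Modules} (hE : Coh.IsCoh E) :
    ∃ (p : ℕ) (ν : ℤ) (q : (∐ fun _ : Fin p => (Scheme.Modules.pullback i).obj (Twist.twistOver n S ν)) ⟶ E),
      Epi q := by
  haveI : IsProper (CohB1.ProjSpaceOver.toBase n S) := H27Weil.isProper_toBase n S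
  let L := (Scheme.Modules.pullback i).obj (Twist.twistOver n S 1)
  have hq : Mor2.IsQuasiAffine i := ⟨inferInstance, fun V hV => by
    haveI : IsAffine (i ⁻¹ᵁ V).toScheme := hV.preimage i
    infer_instance⟩
  have h : RelAmple.IsRelAmple (str i) L :=
    H11Ample.isRelAmple_pullback_of_isQuasiAffine hq (H8Props.Ample.isRelAmple_twistOver n S)
  have hA : CohB1.IsAmple L :=
    (H11Ample.ampleOn_top_iff L).1 ((H11Ample.isAmple_restrict_iff L _).1 (h.2 ⟨⊤, isAffineOpen_top S⟩))
  haveI : CompactSpace X := (H11Ample.isAmple_iff.1 hA).2.1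
  haveI : QuasiSeparatedSpace X := H11Ample.quasiSeparatedSpace_of_isAmple hA
  obtain ⟨m, hm⟩ := H11Ample.eventually_spanning hA hE
  obtain ⟨ι, _, g, hg⟩ := hm m le_rfl
  obtain ⟨k, q, hqe⟩ := H11Tilde.exists_epi_freeMod_of_spanning _ g hg
  haveI := hqe
  obtain ⟨e₁⟩ := PnHilbert.nonempty_tensorPow_twist (n := n) (S := S) m
  obtain ⟨e₂⟩ := H11Ample.exists_iso_pullback_tensorPow i (RegSheaf.isInvertible_twistOver (n := n) (T := S) 1) m
  obtain ⟨e₃⟩ := RegSheaf.nonempty_twistOver_add (n := n) (T := S) (m : ℤ) (-(m : ℤ)) 0 (by ring)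
  obtain ⟨e₄⟩ := H11Tilde.nonempty_twist_zero_iso (CohB1.polyGrading n (ULift.{u} ℤ))
  let e₅ : Twist.twistOver n S 0 ≅ Coh.structureModule _ :=
    (Scheme.Modules.pullback _).mapIso e₄ ≪≫ H16Derived.KFlat.Stalk.structurePullbackIso _
  let L' := (Scheme.Modules.pullback i).obj (Twist.twistOver n S (-(m : ℤ)))
  let e : CohB1.tensorMod (CohB1.tensorMod E (CohB1.tensorPow L m)) L' ≅ E :=
    PicGrp.tensorModIso (PicGrp.tensorModIso (Iso.refl E)
      (e₂.symm ≪≫ (Scheme.Modules.pullback i).mapIso e₁)) (Iso.refl L') ≪≫ H10Coh.Tw.assoc _ _ _ ≪≫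
      PicGrp.tensorModIso (Iso.refl E) ((pT i _ _).symm ≪≫ (Scheme.Modules.pullback i).mapIso (e₃ ≪≫ e₅) ≪≫ pO i) ≪≫
      H10Coh.Tw.rightUnitIso E
  exact ⟨k, -(m : ℤ), H11Tilde.exists_epi_sigma_of_epi_free q
    (H11Ample.isInvertible_pullback _ (RegSheaf.isInvertible_twistOver _)) e (Iso.refl L')⟩

end

end Groth.Agent.H17.QuotSch
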