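import Groth.Agent.H17.QuotSch.RelPull
import Groth.Agent.H17.FLI.DivExt
import Groth.Agent.LeadBrown.PullTensorComp
import Groth.Agent.H11Sym.InvertibleInverse

/-!
# Quotients of twists
-/

set_option autoImplicit false
set_option linter.style.haveILetI false
set_option backward.isDefEq.respectTransparency false
set_option backward.isDefEq.respectTransparency.types false

universe u

open CategoryTheory CategoryTheory.Limits AlgebraicGeometry
open Groth.Agent Groth.Agent.H22Alg
open Groth.Agent.H25Theta (pb pT pC pI tI pO)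
open KoszTw (tensorMap)

namespace Groth.Agent.H17.QuotSch

noncomputable section

variable {X Y Z : Scheme.{u}}

/-- Pullback of tensor products is compatible with composition. -/
theorem pT_comp (a : X ⟶ Y) (b : Y ⟶ Z) {c : X ⟶ Z} (h : a ≫ b = c) (M N : Z.Modules) :
    (cI a b h (CohB1.tensorMod M N)).hom ≫ (pT c M N).hom =
      (Scheme.Modules.pullback a).map (pT b M N).hom ≫ (pT a _ _).hom ≫
        tensorMap (cI a b h M).hom (cI a b h N).hom := by
  subst h
  have e := LeadBrown.pullTensor_comp a b M N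
  simp only [cI, Scheme.Modules.pullbackCongr, eqToIso_refl, Iso.trans_hom, Iso.app_hom, Iso.refl_hom,
    NatTrans.id_app, Category.comp_id]
  exact e.symm

/-- Pullback of tensor products is natural in the first factor. -/
theorem pT_natural (a : X ⟶ Y) {M M' : Y.Modules} (φ : M ⟶ M') (N : Y.Modules) :
    (Scheme.Modules.pullback a).map (tensorMap φ (𝟙 N)) ≫ (pT a M' N).hom =
      (pT a M N).hom ≫ tensorMap ((Scheme.Modules.pullback a).map φ) (𝟙 _) := by
  rw [← KoszTw.tensorBi_map_app, ← KoszTw.tensorBi_map_app]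
  exact (H16Derived.KFlat.Stalk.pullTensorLIso a N).hom.naturality φ

variable {S : Scheme.{u}} (f : X ⟶ S) (A B : X.Modules)

/-- `(A ⊗ B)_T ≅ A_T ⊗ B_T`. -/
abbrev twI (T : Over S) : FGA.ET f (CohB1.tensorMod A B) T ≅ CohB1.tensorMod (FGA.ET f A T) (FGA.ET f B T) :=
  pT (pullback.fst f T.hom) A B

/-- The twist of a quotient. -/
def twQ {T : Over S} {F : (PicF.XT f T).Modules} (π : FGA.ET f A T ⟶ F) :
    FGA.ET f (CohB1.tensorMod A B) T ⟶ CohB1.tensorMod F (FGA.ET f B T) :=
  (twI f A B T).hom ≫ tensorMap π (𝟙 _)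

variable {f A B}

theorem isEquivalence_twist (hB : PicF.IsInvertible B) :
    ((DCoh.tensorBi (X := X)).flip.obj B).IsEquivalence := by
  obtain ⟨B', -, ⟨e⟩⟩ := H11Sym.exists_inverse hB
  exact FLI.DivExt.isEquivalence_flip (H11Ample.tensorCommIso _ _ ≪≫ e)

theorem epi_twQ (hB : PicF.IsInvertible B) {T : Over S} {F : (PicF.XT f T).Modules} (π : FGA.ET f A T ⟶ F) [Epi π] :
    Epi (twQ f A B π) := by
  haveI := isEquivalence_twist (H11Ample.isInvertible_pullback (pullback.fst f T.hom) hB)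
  haveI : Epi (tensorMap π (𝟙 (FGA.ET f B T))) := by
    rw [← KoszTw.tensorBi_map_app]
    exact inferInstanceAs (Epi (((DCoh.tensorBi (X := PicF.XT f T)).flip.obj (FGA.ET f B T)).map π))
  exact epi_comp _ _

theorem nonempty_pullQ_twQ {T T' : Over S} (g : T' ⟶ T) {F : (PicF.XT f T).Modules} (π : FGA.ET f A T ⟶ F) :
    ∃ Θ : (Scheme.Modules.pullback (PicF.XTmap f g)).obj (CohB1.tensorMod F (FGA.ET f B T)) ≅
        CohB1.tensorMod ((Scheme.Modules.pullback (PicF.XTmap f g)).obj F) (FGA.ET f B T'),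
      H24Quot.pullQ f (CohB1.tensorMod A B) g (twQ f A B π) ≫ Θ.hom = twQ f A B (H24Quot.pullQ f A g π) := by
  let m := PicF.XTmap f g
  refine ⟨pT m F _ ≪≫ tI (Iso.refl _) (FGA.ETiso f B g), ?_⟩
  have hc : (FGA.ETiso f (CohB1.tensorMod A B) g).hom ≫ (twI f A B T').hom =
      (Scheme.Modules.pullback m).map (twI f A B T).hom ≫ (pT m _ _).hom ≫
        tensorMap (FGA.ETiso f A g).hom (FGA.ETiso f B g).hom :=
    pT_comp m (pullback.fst f T.hom) (FGA.XTmap_fst f g) A B
  rw [← Iso.eq_inv_comp] at hc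
  have hn := pT_natural m π (FGA.ET f B T)
  rw [twQ, twQ, hc, H24Quot.pullQ, H24Quot.pullQ, Functor.map_comp]
  simp only [Category.assoc, Iso.trans_hom]
  rw [reassoc_of% hn]
  show _ ≫ _ ≫ _ ≫ tensorMap _ (𝟙 _) ≫ tensorMap (𝟙 _) _ = _
  rw [← KoszTw.tensorMap_comp, ← KoszTw.tensorMap_comp]
  simp [m]

theorem kernel_twQ_iff (hB : PicF.IsInvertible B) {T : Over S} {F F' : (PicF.XT f T).Modules}
    (π : FGA.ET f A T ⟶ F) (π' : FGA.ET f A T ⟶ F') [Epi π] [Epi π'] :
    kernelSubobject (twQ f A B π) = kernelSubobject (twQ f A B π') ↔ kernelSubobject π = kernelSubobject π' := by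
  haveI := isEquivalence_twist (H11Ample.isInvertible_pullback (pullback.fst f T.hom) hB)
  let L := (DCoh.tensorBi (X := PicF.XT f T)).flip.obj (FGA.ET f B T)
  have hL : ∀ {P Q : (PicF.XT f T).Modules} (p : P ⟶ Q), L.map p = tensorMap p (𝟙 (FGA.ET f B T)) :=
    fun p => KoszTw.tensorBi_map_app p _
  haveI := epi_twQ hB π
  haveI := epi_twQ hB π'
  constructor
  · intro h
    obtain ⟨φ, hφ⟩ := H24Quot.exists_iso_of_kernelSubobject_eq _ _ h
    let ψ : F ≅ F' := L.preimageIso φ
    have hψ : π ≫ ψ.hom = π' := L.map_injective (by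
      rw [Functor.map_comp, show L.map ψ.hom = φ.hom from L.map_preimage _, hL, hL]
      rw [twQ, twQ, Category.assoc] at hφ
      exact (cancel_epi (twI f A B T).hom).1 hφ)
    rw [← hψ, kernelSubobject_comp_mono]
  · intro h
    obtain ⟨φ, hφ⟩ := H24Quot.exists_iso_of_kernelSubobject_eq _ _ h
    have e : twQ f A B π ≫ (L.mapIso φ).hom = twQ f A B π' := by
      rw [twQ, twQ, Category.assoc, Functor.mapIso_hom, ← hφ, hL]
      exact congrArg (_ ≫ ·) ((KoszTw.tensorMap_comp _ _ _ _).symm.trans (by rw [Category.comp_id]))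
    rw [← e, kernelSubobject_comp_mono]

theorem exists_untwist (hB : PicF.IsInvertible B) {T : Over S} {F' : (PicF.XT f T).Modules}
    (π' : FGA.ET f (CohB1.tensorMod A B) T ⟶ F') [Epi π'] :
    ∃ (F : (PicF.XT f T).Modules) (π : FGA.ET f A T ⟶ F) (e : CohB1.tensorMod F (FGA.ET f B T) ≅ F'),
      Epi π ∧ twQ f A B π ≫ e.hom = π' := by
  haveI := isEquivalence_twist (H11Ample.isInvertible_pullback (pullback.fst f T.hom) hB)
  let L := (DCoh.tensorBi (X := PicF.XT f T)).flip.obj (FGA.ET f B T)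
  let F := L.objPreimage F'
  let e : L.obj F ≅ F' := L.objObjPreimageIso F'
  let π : FGA.ET f A T ⟶ F := L.preimage ((twI f A B T).inv ≫ π' ≫ e.inv)
  have hL : L.map π = (twI f A B T).inv ≫ π' ≫ e.inv := L.map_preimage _
  haveI : Epi (L.map π) := by rw [hL]; infer_instance
  refine ⟨F, π, e, L.epi_of_epi_map ‹_›, ?_⟩
  rw [twQ, ← KoszTw.tensorBi_map_app]
  show ((twI f A B T).hom ≫ L.map π) ≫ e.hom = π'
  simp [hL]

end

end Groth.Agent.H17.QuotSch
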