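import Groth.Agent.H8Props.FunDescent.Stalk
import Groth.Agent.H16Derived.KFlat.PerfNoeth

/-!
# Quotients on a disjoint union of open subschemes
-/

set_option autoImplicit false
set_option linter.style.haveILetI false
set_option backward.isDefEq.respectTransparency false
set_option backward.isDefEq.respectTransparency.types false

universe u

open CategoryTheory CategoryTheory.Limits AlgebraicGeometry Opposite TopologicalSpace
open Groth.Agent

namespace Groth.Agent.H17.QuotSch

noncomputable section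

theorem isIso_pi_π_of_isZero {C : Type*} [Category C] [HasZeroMorphisms C] {ι : Type*} (F : ι → C) [HasProduct F]
    (b : ι) (h : ∀ a, a ≠ b → IsZero (F a)) : IsIso (Pi.π F b) := by
  classical
  refine ⟨Pi.lift fun a => if e : b = a then eqToHom (congrArg F e) else 0, Pi.hom_ext _ _ fun a => ?_, ?_⟩
  · by_cases e : b = a
    · subst e; simp
    · exact (h a (Ne.symm e)).eq_of_tgt _ _
  · simp

variable {Y : Scheme.{u}} {ι : Type u} {U : ι → Scheme.{u}} (j : ∀ a, U a ⟶ Y) [∀ a, IsOpenImmersion (j a)]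
  (hdisj : ∀ a b, a ≠ b → ∀ (x : U a) (y : U b), j a x ≠ j b y)

include hdisj in
theorem isIso_pullback_π (F : ∀ a, (U a).Modules) (b : ι) :
    IsIso ((Scheme.Modules.pullback (j b)).map
      (Pi.π (fun a => (Scheme.Modules.pushforward (j a)).obj (F a)) b)) := by
  let P := fun a => (Scheme.Modules.pushforward (j a)).obj (F a)
  haveI : IsIso ((Scheme.Modules.restrictFunctor (j b)).map (Pi.π P b)) := by
    refine Scheme.Modules.Hom.isIso_iff_isIso_app.2 fun W => ?_
    show IsIso ((Pi.π P b).app (j b ''ᵁ W))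
    let Φ : Y.Modules ⥤ AddCommGrpCat.{u} :=
      Scheme.Modules.toPresheaf Y ⋙ (evaluation _ _).obj (op (j b ''ᵁ W))
    haveI : PreservesLimitsOfShape (Discrete ι) (Scheme.Modules.toPresheaf Y) :=
      PreservesLimitsOfSize.preservesLimitsOfShape
    haveI : PreservesLimitsOfShape (Discrete ι) ((evaluation (Y.Opens)ᵒᵖ AddCommGrpCat.{u}).obj (op (j b ''ᵁ W))) :=
      inferInstance
    haveI : PreservesLimit (Discrete.functor P) Φ := by dsimp only [Φ]; exact inferInstance
    haveI : IsIso (Pi.π (fun a => Φ.obj (P a)) b) := isIso_pi_π_of_isZero _ _ fun a ha => by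
      have he : j a ⁻¹ᵁ (j b ''ᵁ W) = ⊥ := TopologicalSpace.Opens.ext (Set.eq_empty_iff_forall_notMem.2
        fun x ⟨y, _, hy⟩ => hdisj a b ha x y hy.symm)
      have h : IsTerminal ((F a).presheaf.obj (op ⊥)) :=
        TopCat.Sheaf.isTerminalOfEmpty (⟨(F a).presheaf, (F a).isSheaf⟩ : TopCat.Sheaf Ab (U a).toTopCat)
      show IsZero ((F a).presheaf.obj (op (j a ⁻¹ᵁ (j b ''ᵁ W))))
      rw [he]
      exact (IsZero.iff_id_eq_zero _).2 (h.hom_ext _ _)
    show IsIso (Φ.map (Pi.π P b))
    rw [← piComparison_comp_π Φ P b]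
    infer_instance
  exact (NatIso.isIso_map_iff (Scheme.Modules.restrictFunctorIsoPullback (j b)) _).1 this

variable (hcov : ∀ y, ∃ a x, j a x = y) (E : Y.Modules) {F : ∀ a, (U a).Modules}
  (π : ∀ a, (Scheme.Modules.pullback (j a)).obj E ⟶ F a)

include hdisj hcov in
/-- Quotients on the pieces glue. -/
theorem exists_glue_quot [∀ a, Epi (π a)] :
    ∃ (P : Y.Modules) (q : E ⟶ P), Epi q ∧ ((∀ a, Coh.IsQCoh (F a)) → Coh.IsQCoh P) ∧
      ∀ a, ∃ φ : (Scheme.Modules.pullback (j a)).obj P ≅ F a, (Scheme.Modules.pullback (j a)).map q ≫ φ.hom = π a := by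
  let adj := fun a => Scheme.Modules.pullbackPushforwardAdjunction (j a)
  let G := fun a => (Scheme.Modules.pushforward (j a)).obj (F a)
  let q : E ⟶ ∏ᶜ G := Pi.lift fun a => (adj a).homEquiv _ _ (π a)
  have hc : ∀ a, IsIso ((adj a).counit.app (F a)) := fun a =>
    haveI : IsIso (adj a).counit := (adj a).counit_isIso_of_R_fully_faithful
    inferInstance
  have hφ : ∀ a, ∃ φ : (Scheme.Modules.pullback (j a)).obj (∏ᶜ G) ≅ F a,
      (Scheme.Modules.pullback (j a)).map q ≫ φ.hom = π a := fun a => by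
    haveI := isIso_pullback_π j hdisj F a
    haveI := hc a
    refine ⟨asIso ((Scheme.Modules.pullback (j a)).map (Pi.π G a)) ≪≫ asIso ((adj a).counit.app (F a)), ?_⟩
    simp only [Iso.trans_hom, asIso_hom, ← Functor.map_comp_assoc, q, Pi.lift_π]
    exact ((adj a).homEquiv_counit _ _ _).symm.trans (Equiv.symm_apply_apply _ _)
  refine ⟨∏ᶜ G, q, (H8Props.FunDescent.epi_iff q).2 fun y => ?_, fun hq => ?_, hφ⟩
  · obtain ⟨a, x, rfl⟩ := hcov y
    obtain ⟨φ, h⟩ := hφ a
    haveI : Epi ((Scheme.Modules.pullback (j a)).map q) := by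
      rw [show (Scheme.Modules.pullback (j a)).map q = π a ≫ φ.inv by rw [← h, Category.assoc, Iso.hom_inv_id,
        Category.comp_id]]
      exact epi_comp _ _
    exact (H8Props.FunDescent.surjective_stalkLin_pullback_iff (j a) q x).1
      ((H8Props.FunDescent.epi_iff _).1 inferInstance x)
  · refine H16Derived.KFlat.Stalk.isQCoh_of_local _ fun y => ?_
    obtain ⟨a, x, rfl⟩ := hcov y
    obtain ⟨φ, -⟩ := hφ a
    refine ⟨(j a).opensRange, ⟨x, rfl⟩, ?_⟩
    haveI : (F a).IsQuasicoherent := hq a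
    let k := (j a).isoOpensRange.inv
    let e : (Scheme.Modules.restrictFunctor k).obj (F a) ≅ (∏ᶜ G).restrict (j a).opensRange.ι :=
      (Scheme.Modules.restrictFunctor k).mapIso
          (((Scheme.Modules.restrictFunctorIsoPullback (j a)).app (∏ᶜ G) ≪≫ φ).symm) ≪≫
        (Scheme.Modules.restrictFunctorComp k (j a)).symm.app (∏ᶜ G) ≪≫
        (Scheme.Modules.restrictFunctorCongr (Scheme.Hom.isoOpensRange_inv_comp _)).app (∏ᶜ G)
    haveI : ((Scheme.Modules.restrictFunctor k).obj (F a)).IsQuasicoherent :=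
      Scheme.Modules.isQuasicoherent_restrictFunctor _ _
    exact (SheafOfModules.isQuasicoherent.{u} (R := ((j a).opensRange : Scheme.{u}).ringCatSheaf)).prop_of_iso e inferInstance

end

end Groth.Agent.H17.QuotSch
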