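import Groth.Agent.H17.QuotSch.Fixed
import Groth.Agent.H17.QuotSch.GlueMod
import Groth.Agent.H06EGA11c.StagePoint
import Groth.Agent.H8Props.FunDescent.Functor

/-!
# The Quot scheme
-/

set_option autoImplicit false
set_option linter.style.haveILetI false
set_option backward.isDefEq.respectTransparency false
set_option backward.isDefEq.respectTransparency.types false

universe u

open CategoryTheory CategoryTheory.Limits AlgebraicGeometry
open Groth.Agent Groth.Agent.H22Alg
open Groth.Agent.H25Theta (pb pT pC pI tI pO)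

namespace Groth.Agent.H17.QuotSch

noncomputable section

variable {n : ℕ} {S X : Scheme.{u}} (i : X ⟶ CohB1.ProjSpaceOver n S)

/-- The Hilbert function on all integers. -/
def hv (T : Over S) (F : (PicF.XT (str i) T).Modules) (t : T.left) : ℤ → ℤ :=
  fun m => HilbertFlat.fibEuler (pX i T) (CohB1.tensorMod F (Om i T m)) t

theorem hv_congr {T : Over S} {F F' : (PicF.XT (str i) T).Modules} (e : F ≅ F') (t : T.left) :
    hv i T F t = hv i T F' t :=
  funext fun _ => PnHilbert.fibEuler_congr _ (PicGrp.tensorModIso e (Iso.refl _)) t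

theorem eul_iff_hv {T : Over S} {F : (PicF.XT (str i) T).Modules} {f : ℤ → ℤ} :
    Eul i T F f ↔ ∀ t, hv i T F t = f :=
  ⟨fun h t => funext (h t), fun h t m => congrFun (h t) m⟩

variable [IsClosedImmersion i] [IsLocallyNoetherian S]

omit [IsLocallyNoetherian S] in
theorem hv_pullback {T' T : Over S} (g : T' ⟶ T) [IsLocallyNoetherian T.left] {F : (PicF.XT (str i) T).Modules}
    (hF : Coh.IsCoh F) (t : T'.left) :
    hv i T' ((Scheme.Modules.pullback (PicF.XTmap (str i) g)).obj F) t = hv i T F (g.left t) := funext fun m => by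
  refine Eq.trans ?_ (HilbertFlat.fibEuler_baseChange (isPullback_XTmap' (i := i) g)
    (H11Ample.isCoh_tensor hF (isInvertible_Om i T m)) t)
  exact PnHilbert.fibEuler_congr _ (PicGrp.tensorModIso (Iso.refl _)
    (cI (PicF.XTmap (str i) g) (aT i T) (FGA.XTmap_fst (str i) g) _).symm ≪≫ (pT _ _ _).symm) t

variable {E : X.Modules}

omit [IsLocallyNoetherian S] in
theorem hv_quotPull {T' T : Over S} (g : T' ⟶ T) [IsLocallyNoetherian T.left] (K : FGA.QuotSet (str i) E T)
    (t : T'.left) :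
    hv i T' (cokernel (FGA.quotPull (str i) E g K.1).arrow) t = hv i T (cokernel K.1.arrow) (g.left t) := by
  haveI := H24Quot.epi_pullQ (str i) E g (cokernel.π K.1.arrow)
  obtain ⟨e⟩ := H24Quot.nonempty_cokernel_iso (H24Quot.pullQ (str i) E g (cokernel.π K.1.arrow)) _
    (H24Quot.quotPull_eq (str i) E g _ K.1 (H24Quot.kernelSubobject_cokernel_π K.1).symm)
  rw [← hv_congr i e, hv_pullback i g K.2.1]

/-- The possible Hilbert functions. -/
abbrev HF : Type u := ULift.{u} {f : ℤ → ℤ // ∃ pol : Polynomial ℚ, ∀ m : ℤ, (f m : ℚ) = pol.eval (m : ℚ)}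

omit [IsLocallyNoetherian S] in
theorem exists_HF {T : Over S} [IsLocallyNoetherian T.left] {F : (PicF.XT (str i) T).Modules} (hF : Coh.IsCoh F)
    (t : T.left) : ∃ a : HF.{u}, hv i T F t = a.down.1 := by
  obtain ⟨p, hp⟩ := HilbertFlat.exists_poly_hilb (pX i T) (isInvertible_Om i T 1) (H10Coh.isFP_of_isCoh _ hF) t
  exact ⟨⟨⟨hv i T F t, p, fun m => fibEuler_eq_of_hilb i T hF t p hp m⟩⟩, rfl⟩

omit [IsLocallyNoetherian S] in
theorem isOpen_hv_eq {T : Over S} [IsLocallyNoetherian T.left] (K : FGA.QuotSet (str i) E T) (f : ℤ → ℤ) :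
    IsOpen {t : T.left | hv i T (cokernel K.1.arrow) t = f} := by
  refine isOpen_iff_forall_mem_open.2 fun t ht => ?_
  obtain ⟨U, htU, hU⟩ := HilbertFlat.exists_nhd_fibEuler_eq (pX i T) (isInvertible_Om i T 1) K.2.1 K.2.2 t
  refine ⟨U, fun s hs => Eq.trans ?_ ht, U.2, htU⟩
  obtain ⟨p, hp⟩ :=
    HilbertFlat.exists_poly_hilb (pX i T) (isInvertible_Om i T 1) (H10Coh.isFP_of_isCoh _ K.2.1) t
  funext m
  refine Int.cast_injective (α := ℚ) ((fibEuler_eq_of_hilb i T K.2.1 s p (fun j => ?_) m).trans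
    (fibEuler_eq_of_hilb i T K.2.1 t p hp m).symm)
  rw [show HilbertFlat.hilb (pX i T) (Om i T 1) (cokernel K.1.arrow) s j =
    HilbertFlat.hilb (pX i T) (Om i T 1) (cokernel K.1.arrow) t j from hU s hs j]
  exact hp j

omit [IsLocallyNoetherian S] [IsClosedImmersion i] in
theorem isOpenImmersion_XTmap {T' T : Over S} (g : T' ⟶ T) [IsOpenImmersion g.left] :
    IsOpenImmersion (PicF.XTmap (str i) g) :=
  MorphismProperty.of_isPullback (P := @IsOpenImmersion) (isPullback_XTmap' (i := i) g).flip inferInstance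

omit [IsClosedImmersion i] [IsLocallyNoetherian S] in
/-- Subobjects agreeing on an open cover of the base are equal. -/
theorem quotPull_ext_of_cover {T : Over S} {ι : Type*} {Ti : ι → Over S} (g : ∀ a, Ti a ⟶ T)
    [∀ a, IsOpenImmersion (g a).left] (hsur : ∀ t : T.left, ∃ a, t ∈ Set.range (g a).left)
    (K₁ K₂ : Subobject (FGA.ET (str i) E T))
    (h : ∀ a, FGA.quotPull (str i) E (g a) K₁ = FGA.quotPull (str i) E (g a) K₂) : K₁ = K₂ := by
  have key : ∀ {K K' : Subobject (FGA.ET (str i) E T)},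
      (∀ a, FGA.quotPull (str i) E (g a) K = FGA.quotPull (str i) E (g a) K') → K ≤ K' := by
    intro K K' h
    have h0 : K.arrow ≫ cokernel.π K'.arrow = 0 := by
      refine (H8Props.FunDescent.eq_zero_iff _).2 fun y => ?_
      obtain ⟨a, x, rfl⟩ := H8Props.FunDescent.exists_point (str i) g hsur y
      haveI := H8Props.FunDescent.flat_XTmap (str i) (g a)
      refine H8Props.FunDescent.stalkLin_eq_zero_of_pullback (PicF.XTmap (str i) (g a)) _ x ?_
      refine (H8Props.FunDescent.eq_zero_iff _).1 ?_ x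
      let L := Scheme.Modules.pullback (PicF.XTmap (str i) (g a))
      haveI := H24Quot.epi_pullQ (str i) E (g a) (cokernel.π K.arrow)
      haveI := H24Quot.epi_pullQ (str i) E (g a) (cokernel.π K'.arrow)
      obtain ⟨φ, hφ⟩ := H24Quot.exists_iso_of_kernelSubobject_eq
        (H24Quot.pullQ (str i) E (g a) (cokernel.π K.arrow)) (H24Quot.pullQ (str i) E (g a) (cokernel.π K'.arrow))
        (by rw [← H24Quot.quotPull_eq (str i) E (g a) _ K (H24Quot.kernelSubobject_cokernel_π K).symm, h a,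
          H24Quot.quotPull_eq (str i) E (g a) _ K' (H24Quot.kernelSubobject_cokernel_π K').symm])
      rw [H24Quot.pullQ, H24Quot.pullQ, Category.assoc, cancel_epi] at hφ
      rw [Functor.map_comp, ← hφ, ← L.map_comp_assoc, cokernel.condition, L.map_zero, zero_comp]
    rw [← H24Quot.kernelSubobject_cokernel_π K']
    exact le_kernelSubobject _ _ h0
  exact le_antisymm (key h) (key fun a => (h a).symm)

/-- Members on a disjoint union glue. -/
theorem exists_glue_set (hE : Coh.IsCoh E) {ι : Type u} {P : ι → Over S} {Q : Over S} [IsLocallyNoetherian Q.left]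
    (j : ∀ a, P a ⟶ Q) [∀ a, IsOpenImmersion (j a).left] (hcov : ∀ y, ∃ a x, (j a).left x = y)
    (hdisj : ∀ a b, a ≠ b → ∀ (x : (P a).left) (y : (P b).left), (j a).left x ≠ (j b).left y)
    (K : ∀ a, FGA.QuotSet (str i) E (P a)) :
    ∃ KQ : FGA.QuotSet (str i) E Q, ∀ a, FGA.quotPull (str i) E (j a) KQ.1 = (K a).1 := by
  haveI : ∀ a, IsOpenImmersion (PicF.XTmap (str i) (j a)) := fun a => isOpenImmersion_XTmap i (j a)
  have hsq := fun a => isPullback_XTmap' (i := i) (j a)
  let π := fun a => (FGA.ETiso (str i) E (j a)).hom ≫ cokernel.π (K a).1.arrow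
  have hπe : ∀ a, Epi (π a) := fun a => epi_comp _ _
  obtain ⟨F, q, hq, hqc, hφ⟩ := exists_glue_quot (fun a => PicF.XTmap (str i) (j a))
    (fun a b hab x y h => hdisj a b hab (pX i (P a) x) (pX i (P b) y) (by
      rw [← Scheme.Hom.comp_apply, ← (hsq a).w, ← Scheme.Hom.comp_apply, ← (hsq b).w, Scheme.Hom.comp_apply,
        Scheme.Hom.comp_apply, h]))
    (fun y => by
      obtain ⟨a, t, ht⟩ := hcov (pX i Q y)
      exact ⟨a, H8Props.FunDescent.exists_XTmap_eq (str i) (j a) y t ht⟩)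
    (FGA.ET (str i) E Q) π
  haveI := hq
  have hF : Coh.IsCoh F := isCoh_quot i hE Q q (hqc fun a => (K a).2.1.1)
  have hFf : FlatMod.IsFlatOver (pX i Q) F := fun y => by
    obtain ⟨a, t, ht⟩ := hcov (pX i Q y)
    obtain ⟨x, rfl⟩ := H8Props.FunDescent.exists_XTmap_eq (str i) (j a) y t ht
    obtain ⟨φ, -⟩ := hφ a
    refine (H06Mod.isFlatOverAt_pullback_iff (PicF.XTmap (str i) (j a)) (pX i Q) F x).1 ?_
    rw [H06Mod.isFlatOverAt_congr (hsq a).w]
    exact H06Mod.isFlatOverAt_comp_of_flat _ (j a).left _ x (H24Quot.isFlatOver_congr _ φ.symm (K a).2.2 x)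
  obtain ⟨e⟩ := H24Quot.nonempty_cokernel_iso q (kernelSubobject q) rfl
  refine ⟨⟨kernelSubobject q, H10Coh.isCoh_of_iso e hF, H24Quot.isFlatOver_congr _ e hFf⟩, fun a => ?_⟩
  obtain ⟨φ, h⟩ := hφ a
  haveI := H24Quot.epi_pullQ (str i) E (j a) q
  rw [H24Quot.quotPull_eq (str i) E (j a) q _ rfl, ← kernelSubobject_comp_mono _ φ.hom]
  conv_rhs => rw [← H24Quot.kernelSubobject_cokernel_π (K a).1]
  congr 1
  rw [H24Quot.pullQ, Category.assoc, h, Iso.inv_hom_id_assoc]

/-- The Quot functor is a disjoint union of its parts with fixed Hilbert function. -/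
theorem exists_quot_of_fixed (hE : Coh.IsCoh E) (C : ∀ {P : Scheme.{u}}, (P ⟶ S) → Prop)
    (hC : ∀ {P : Scheme.{u}} (c : P ⟶ S), C c → LocallyOfFiniteType c)
    (hfix : ∀ (f : ℤ → ℤ) (pol : Polynomial ℚ), (∀ m : ℤ, (f m : ℚ) = pol.eval (m : ℚ)) →
      ∃ (Q : Over S) (K : FGA.QuotSet (str i) E Q), IsLocallyNoetherian Q.left ∧ Eul i Q (cokernel K.1.arrow) f ∧
        (∀ (T : Over S) [IsLocallyNoetherian T.left] (K' : FGA.QuotSet (str i) E T),
          Eul i T (cokernel K'.1.arrow) f → ∃! g : T ⟶ Q, FGA.quotPull (str i) E g K.1 = K'.1) ∧ C Q.hom) :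
    ∃ (Q : Over S) (K : FGA.QuotSet (str i) E Q), FGA.QuotRepresentedBy (str i) E Q K ∧
      ∃ (ι : Type u) (P : ι → Scheme.{u}) (e : (∐ P) ≅ Q.left),
        ∀ a, C (Limits.Sigma.ι P a ≫ e.hom ≫ Q.hom) := by
  choose P K hP hEul hu hc using
    fun a : HF.{u} => hfix a.down.1 a.down.2.choose a.down.2.choose_spec
  let Pl : HF.{u} → Scheme.{u} := fun a => (P a).left
  haveI : ∀ a, LocallyOfFiniteType (P a).hom := fun a => hC _ (hc a)
  let Q : Over S := Over.mk (Sigma.desc fun a => (P a).hom : (∐ Pl) ⟶ S)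
  haveI : LocallyOfFiniteType Q.hom := IsZariskiLocalAtSource.sigmaDesc (P := @LocallyOfFiniteType) fun a => inferInstance
  haveI : IsLocallyNoetherian Q.left := LocallyOfFiniteType.isLocallyNoetherian Q.hom
  let j : ∀ a, P a ⟶ Q := fun a => Over.homMk (Sigma.ι Pl a) (Sigma.ι_desc _ _)
  haveI : ∀ a, IsOpenImmersion (j a).left := fun a => inferInstanceAs (IsOpenImmersion (Sigma.ι Pl a))
  obtain ⟨KQ, hKQ⟩ := exists_glue_set i hE j (fun y => (sigmaOpenCover Pl).exists_eq y)
    (fun a b hab x y h => hab (congrArg Sigma.fst ((sigmaι_eq_iff (g := Pl) a b x y).1 h)))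
    K
  have hval : ∀ (a : HF.{u}) (x : (P a).left), hv i Q (cokernel KQ.1.arrow) ((j a).left x) = a.down.1 :=
    fun a x => by rw [← hv_quotPull i (j a) KQ x, hKQ a, (eul_iff_hv i).1 (hEul a) x]
  refine ⟨Q, KQ, ⟨inferInstance, fun T _ K' => ?_⟩, HF.{u}, Pl, Iso.refl _, fun a => ?_⟩
  swap
  · rw [Iso.refl_hom, Category.id_comp]
    exact (Sigma.ι_desc (f := Pl) (fun a => (P a).hom) a).symm ▸ hc a
  let W : HF.{u} → T.left.Opens := fun a =>
    ⟨{t | hv i T (cokernel K'.1.arrow) t = a.down.1}, isOpen_hv_eq i K' _⟩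
  have hcov : ⨆ a, (W a).ι.opensRange = ⊤ := by
    simp only [Scheme.Opens.opensRange_ι, ← top_le_iff]
    intro t _
    obtain ⟨a, ha⟩ := exists_HF i K'.2.1 t
    exact TopologicalSpace.Opens.mem_iSup.2 ⟨a, ha⟩
  have hdis : Pairwise (Function.onFun Disjoint fun a => (W a).ι.opensRange) := fun a b hab => by
    simp only [Function.onFun, Scheme.Opens.opensRange_ι, disjoint_iff]
    exact TopologicalSpace.Opens.ext (Set.eq_empty_iff_forall_notMem.2 fun t ht =>
      hab (ULift.ext _ _ (Subtype.ext (ht.1.symm.trans ht.2))))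
  obtain ⟨hcl⟩ := nonempty_isColimit_cofanMk_of (fun a => (W a).ι) hcov hdis
  let TW : HF.{u} → Over S := fun a => Over.mk ((W a).ι ≫ T.hom)
  let w : ∀ a, TW a ⟶ T := fun a => Over.homMk (W a).ι rfl
  haveI : ∀ a, IsOpenImmersion (w a).left := fun a => inferInstanceAs (IsOpenImmersion (W a).ι)
  haveI : ∀ a, IsLocallyNoetherian (TW a).left := fun a => inferInstanceAs (IsLocallyNoetherian (W a : Scheme.{u}))
  let K'' : ∀ a, FGA.QuotSet (str i) E (TW a) := fun a => H24Quot.pullSet (str i) E (w a) K'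
  have hloc := fun a => hu a (TW a) (K'' a) ((eul_iff_hv i).2 fun t => (hv_quotPull i (w a) K' t).trans t.2)
  choose g hg hgu using hloc
  let G : T ⟶ Q := Over.homMk (Cofan.IsColimit.desc hcl fun a => (g a).left ≫ Sigma.ι Pl a)
    (Cofan.IsColimit.hom_ext hcl _ _ fun a => by
      rw [Cofan.IsColimit.fac_assoc, Category.assoc]
      exact (congrArg ((g a).left ≫ ·) (Sigma.ι_desc (f := Pl) (fun a => (P a).hom) a)).trans (Over.w (g a)))
  have hG : ∀ a, w a ≫ G = g a ≫ j a := fun a => Over.OverMorphism.ext (Cofan.IsColimit.fac hcl _ a)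
  refine ⟨G, ?_, fun G' hG' => Over.OverMorphism.ext (Cofan.IsColimit.hom_ext hcl _ _ fun a => ?_)⟩
  · refine quotPull_ext_of_cover i w (fun t => ?_) _ _ fun a => ?_
    · obtain ⟨a, ha⟩ := exists_HF i K'.2.1 t
      exact ⟨a, ⟨t, ha⟩, rfl⟩
    rw [H24Quot.quotPull_comp, hG a, ← H24Quot.quotPull_comp, hKQ a, hg a]
    exact rfl
  · have hr : Set.range ((W a).ι ≫ G'.left) ⊆ Set.range (j a).left := by
      rintro _ ⟨t, rfl⟩
      obtain ⟨b, x, hx⟩ := (sigmaOpenCover Pl).exists_eq (G'.left t.1)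
      suffices h : b = a by subst h; exact ⟨x, hx⟩
      refine ULift.ext _ _ (Subtype.ext ((hval b x).symm.trans ?_))
      show hv i Q (cokernel KQ.1.arrow) ((Sigma.ι Pl b) x) = a.down.1
      rw [show (Sigma.ι Pl b) x = G'.left t.1 from hx, ← hv_quotPull i G' KQ t.1, hG']
      exact t.2
    let l := IsOpenImmersion.lift (j a).left ((W a).ι ≫ G'.left) hr
    have hl : l ≫ (j a).left = (W a).ι ≫ G'.left := IsOpenImmersion.lift_fac _ _ _
    let g' : TW a ⟶ P a := Over.homMk l (by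
      show l ≫ (P a).hom = (W a).ι ≫ T.hom
      rw [← Over.w G', ← Over.w (j a), ← Category.assoc, hl, Category.assoc])
    have hg' : g' ≫ j a = w a ≫ G' := Over.OverMorphism.ext hl
    have : g' = g a := hgu a g' (by
      show FGA.quotPull (str i) E g' (K a).1 = _
      rw [← hKQ a, H24Quot.quotPull_comp, hg', ← H24Quot.quotPull_comp, hG']
      rfl)
    exact hl.symm.trans ((congrArg (fun z : TW a ⟶ P a => z.left ≫ Sigma.ι Pl a) this).trans
      (Cofan.IsColimit.fac hcl (fun a => (g a).left ≫ Sigma.ι Pl a) a).symm)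

/-- The Quot scheme, with pieces closed in projective spaces over the base. -/
theorem exists_quot (hE : Coh.IsCoh E) (p : ℕ) (ν : ℤ)
    (q : (∐ fun _ : Fin p => (Scheme.Modules.pullback i).obj (Twist.twistOver n S ν)) ⟶ E) [Epi q] :
    ∃ (Q : Over S) (K : FGA.QuotSet (str i) E Q), FGA.QuotRepresentedBy (str i) E Q K ∧
      ∃ (ι : Type u) (P : ι → Scheme.{u}) (e : (∐ P) ≅ Q.left) (m : ι → ℕ)
        (c : ∀ a, P a ⟶ CohB1.ProjSpaceOver (m a) S),
        ∀ a, IsClosedImmersion (c a) ∧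
          c a ≫ CohB1.ProjSpaceOver.toBase (m a) S = Limits.Sigma.ι P a ≫ e.hom ≫ Q.hom := by
  obtain ⟨Q, K, hK, ι, P, e, he⟩ := exists_quot_of_fixed i hE
    (fun {P} h => ∃ (N : ℕ) (c : P ⟶ CohB1.ProjSpaceOver N S),
      IsClosedImmersion c ∧ c ≫ CohB1.ProjSpaceOver.toBase N S = h)
    (fun h ⟨N, c, hc, e⟩ => by
      haveI := hc
      haveI := H27Weil.isProper_toBase N S
      rw [← e]; infer_instance)
    (fun f pol hpol => exists_fixed i hE p ν q f pol hpol)
  choose m c hc using he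
  exact ⟨Q, K, hK, ι, P, e, m, c, hc⟩

end

end Groth.Agent.H17.QuotSch

namespace Groth.Agent.H17.QuotSch

noncomputable section

/-- `O(d)^r` is a quotient of a sum of copies of `O(d)`. -/
theorem exists_epi_sigma_twist {n : ℕ} (S : Scheme.{u}) (r : ℕ) (d : ℤ) :
    ∃ q : (∐ fun _ : Fin r => (Scheme.Modules.pullback (𝟙 _)).obj (Twist.twistOver n S d)) ⟶
        CohB1.tensorMod (FlatMod.freeMod (CohB1.ProjSpaceOver n S) r) (Twist.twistOver n S d), Epi q := by
  let L := Twist.twistOver n S d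
  haveI := isEquivalence_twist (RegSheaf.isInvertible_twistOver (n := n) (T := S) d)
  let F := (DCoh.tensorBi (X := CohB1.ProjSpaceOver n S)).flip.obj L
  let e : F.obj (FlatMod.freeMod (CohB1.ProjSpaceOver n S) r) ≅
      ∐ fun _ : Fin r => (Scheme.Modules.pullback (𝟙 _)).obj L :=
    PreservesCoproduct.iso F _ ≪≫ Sigma.mapIso (fun _ => RegSheaf.leftUnit L ≪≫
      ((Scheme.Modules.pullbackId _).app L).symm)
  exact ⟨e.inv, inferInstance⟩

end

end Groth.Agent.H17.QuotSch
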