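import Groth.Agent.H28Vert.TrivGeneric
import Groth.Agent.H8Props.FlatLocus.Sections
import Groth.Agent.H8Props.ImageTorsionFree
import Groth.Agent.H22Alg.HilbertFlat
import Groth.Agent.H16Derived.KFlat.RestrictD
import Groth.Agent.H10Coh.BaseChange
import Groth.Agent.H10Coh.FinType2

/-!
# Extending flat quotients over a discrete valuation ring
-/

set_option autoImplicit false
set_option linter.style.haveILetI false
set_option backward.isDefEq.respectTransparency false
set_option backward.isDefEq.respectTransparency.types false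

universe u

open CategoryTheory CategoryTheory.Limits AlgebraicGeometry
open Groth.Agent Groth.Agent.H8Props.ImageTorsionFree

namespace Groth.Agent.H17.QuotSch

noncomputable section

variable {R : Type u} [CommRing R] [IsDomain R] [IsDiscreteValuationRing R] {Y Y' : Scheme.{u}}
  [IsLocallyNoetherian Y] {f : Y ⟶ Spec (CommRingCat.of R)} {fη : Y' ⟶ Spec (CommRingCat.of (FractionRing R))}
  {j : Y' ⟶ Y}

omit [IsDiscreteValuationRing R] [IsLocallyNoetherian Y] in
theorem isUnit_ρ (hsq : IsPullback j fη f (Spec.map (CommRingCat.ofHom (algebraMap R (FractionRing R)))))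
    (U : Y.Opens) {r : R} (hr : r ≠ 0) : IsUnit (j.app U (ρ f U r)) := by
  rw [ρ_app j f U r, show j ≫ f = fη ≫ Spec.map (CommRingCat.ofHom (algebraMap R (FractionRing R))) from hsq.w]
  have h : ρ (fη ≫ Spec.map (CommRingCat.ofHom (algebraMap R (FractionRing R)))) (j ⁻¹ᵁ U) r =
      ρ fη (j ⁻¹ᵁ U) (algebraMap R (FractionRing R) r) := by
    simp only [ρ, RingHom.comp_apply]
    rw [← Scheme.Hom.appLE_comp_appLE fη (Spec.map (CommRingCat.ofHom (algebraMap R (FractionRing R)))) ⊤ ⊤
      (j ⁻¹ᵁ U) le_top le_top, CommRingCat.comp_apply]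
    congr 1
    have := congr($((Scheme.ΓSpecIso_inv_naturality (CommRingCat.ofHom (algebraMap R (FractionRing R))))) r)
    rw [CommRingCat.comp_apply, CommRingCat.comp_apply] at this
    refine Eq.trans ?_ this.symm
    congr 1
  rw [h]
  exact (isUnit_iff_ne_zero.2 ((map_ne_zero_iff _ (IsFractionRing.injective R _)).2 hr)).map _

theorem isFlatOver_of_mono (hsq : IsPullback j fη f (Spec.map (CommRingCat.ofHom (algebraMap R (FractionRing R)))))
    {M : Y.Modules} (hM : Coh.IsQCoh M) {F : Y'.Modules} (ι : M ⟶ (Scheme.Modules.pushforward j).obj F) [Mono ι] :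
    FlatMod.IsFlatOver f M := by
  intro x
  obtain ⟨U, hU, hxU, -⟩ := exists_isAffineOpen_mem_and_subset (U := (⊤ : Y.Opens)) (x := x) trivial
  refine (H8Props.FlatLocus.flat_sections_over_iff f M hM (V := ⊤) (isAffineOpen_top _) hU
    (fun _ _ => trivial)).1 ?_ ⟨x, hxU⟩
  let e := (Scheme.ΓSpecIso (CommRingCat.of R)).commRingCatIsoToRingEquiv
  letI : Algebra R Γ(Spec (CommRingCat.of R), ⊤) := e.symm.toRingHom.toAlgebra
  letI := Module.compHom Γ(M, U) (f.appLE ⊤ U (fun _ _ => trivial)).hom
  letI m2 : Module R Γ(M, U) := Module.compHom _ (ρ f U)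
  haveI : IsScalarTower R Γ(Spec (CommRingCat.of R), ⊤) Γ(M, U) := .of_algebraMap_smul fun a y => rfl
  haveI : Module.Flat R Γ(M, U) := by
    rw [Module.Flat.flat_iff_torsion_eq_bot_of_isBezout, eq_bot_iff]
    rintro y ⟨⟨r, hr⟩, hy⟩
    refine (Submodule.mem_bot R).2 (H10Coh.injective_app_of_mono' ι U ?_)
    have h1 : ι.app U (ρ f U r • y) = ρ f U r • ι.app U y := Scheme.Modules.Hom.app_smul ι _ y
    rw [show ρ f U r • y = 0 from hy, map_zero] at h1
    rw [map_zero]
    exact ((isUnit_ρ hsq U (nonZeroDivisors.ne_zero hr)).smul_eq_zero (x := (show Γ(F, j ⁻¹ᵁ U) from ι.app U y))).1 h1.symm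
  exact H22Alg.HilbertFlat.flat_of_bijective (A := R) (B := Γ(Spec (CommRingCat.of R), ⊤)) e.symm.bijective

/-- A flat quotient on the generic fibre extends to a flat quotient. -/
theorem exists_extension (hsq : IsPullback j fη f (Spec.map (CommRingCat.ofHom (algebraMap R (FractionRing R)))))
    {E : Y.Modules} (hE : Coh.IsCoh E) {F : Y'.Modules} (hF : Coh.IsQCoh F)
    (u : (Scheme.Modules.pullback j).obj E ⟶ F) [Epi u] :
    ∃ (F₀ : Y.Modules) (π : E ⟶ F₀), Epi π ∧ Coh.IsCoh F₀ ∧ FlatMod.IsFlatOver f F₀ ∧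
      ∃ e : (Scheme.Modules.pullback j).obj F₀ ≅ F, (Scheme.Modules.pullback j).map π ≫ e.hom = u := by
  haveI : IsOpenImmersion (Spec.map (CommRingCat.ofHom (algebraMap R (FractionRing R)))) :=
    H28Vert.isOpenImmersion_generic R
  haveI : IsOpenImmersion j := MorphismProperty.of_isPullback hsq.flip inferInstance
  haveI : IsAffineHom j := MorphismProperty.of_isPullback hsq.flip inferInstance
  haveI : E.IsQuasicoherent := hE.1
  haveI : F.IsQuasicoherent := hF
  let adj := Scheme.Modules.pullbackPushforwardAdjunction j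
  haveI := (Scheme.Modules.restrictAdjunction j).fullyFaithfulROfIsIsoCounit.full
  haveI := (Scheme.Modules.restrictAdjunction j).fullyFaithfulROfIsIsoCounit.faithful
  haveI : IsIso adj.counit := inferInstance
  let v : E ⟶ (Scheme.Modules.pushforward j).obj F := adj.homEquiv _ _ u
  haveI : ((Scheme.Modules.pushforward j).obj F).IsQuasicoherent :=
    H10Coh.isQuasicoherent_pushforward_of_isAffineHom j F
  have hI : Coh.IsCoh (Abelian.coimage v) :=
    H10Coh.isCoh_cokernel (kernel.ι v) (H10Coh.isQuasicoherent_kernel v) hE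
  let ι : Abelian.coimage v ⟶ (Scheme.Modules.pushforward j).obj F := Abelian.factorThruCoimage v
  refine ⟨Abelian.coimage v, Abelian.coimage.π v, inferInstance, hI, isFlatOver_of_mono hsq hI.1 ι, ?_⟩
  let w := (Scheme.Modules.pullback j).map ι ≫ adj.counit.app F
  have hw : (Scheme.Modules.pullback j).map (Abelian.coimage.π v) ≫ w = u := by
    rw [← Category.assoc, ← Functor.map_comp,
      show Abelian.coimage.π v ≫ ι = v from Abelian.coimage.fac v]
    exact ((adj.homEquiv_counit _ _ _).symm).trans (Equiv.symm_apply_apply _ _)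
  haveI : PreservesFiniteLimits (Scheme.Modules.pullback j) :=
    H16Derived.KFlat.Stalk.preservesFiniteLimits_pullback_of_flat j
  haveI : Epi w := by
    haveI : Epi ((Scheme.Modules.pullback j).map (Abelian.coimage.π v) ≫ w) := hw.symm ▸ inferInstanceAs (Epi u)
    exact epi_of_epi ((Scheme.Modules.pullback j).map (Abelian.coimage.π v)) w
  haveI : Mono w := inferInstance
  haveI : IsIso w := isIso_of_mono_of_epi w
  exact ⟨asIso w, hw⟩

end

end Groth.Agent.H17.QuotSch
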