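import Groth.Agent.H17.QuotSch.Piece
import Groth.Agent.H17.QuotSch.Saturate
import Groth.Agent.H11Val.Criteria

/-!
# The locus is closed
-/

set_option autoImplicit false
set_option linter.style.haveILetI false
set_option backward.isDefEq.respectTransparency false
set_option backward.isDefEq.respectTransparency.types false

universe u

open CategoryTheory CategoryTheory.Limits AlgebraicGeometry
open Groth.Agent Groth.Agent.H22Alg
open Groth.Agent.H25Theta (pb pT pC pI tI pO)

namespace Groth.Agent.H17.QuotSch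

noncomputable section

variable {n : ℕ} {S X : Scheme.{u}} (i : X ⟶ CohB1.ProjSpaceOver n S) [IsClosedImmersion i] {E : X.Modules}
  {G : Scheme.{u}} [IsLocallyNoetherian (TG G S).left] [IsSeparated (TG G S).hom] {Q : Over S}
  [IsLocallyNoetherian Q.left] (ι : Q ⟶ TG G S) (K : FGA.QuotSet (str i) E Q) (P : ℕ → ℤ)

/-- A space of flat quotients with fixed Hilbert function in the Grassmannian is closed. -/
theorem isClosedImmersion_piece (hE : Coh.IsCoh E) [IsImmersion ι.left] [QuasiCompact ι.left]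
    (hK : ∀ t : Q.left, HilbertFlat.hilb (pX i Q) (Om i Q 1) (cokernel K.1.arrow) t = P)
    (huniv : ∀ (T : Over S) [IsLocallyNoetherian T.left] (K' : FGA.QuotSet (str i) E T),
      (∀ t : T.left, HilbertFlat.hilb (pX i T) (Om i T 1) (cokernel K'.1.arrow) t = P) →
        ∃! g : T ⟶ Q, FGA.quotPull (str i) E g K.1 = K'.1) :
    IsClosedImmersion ι.left := by
  haveI : LocallyOfFiniteType ι.left := inferInstance
  refine IsClosedImmersion.of_isPreimmersion ι.left
    (H11Val.isClosedMap_of_dvrExistence ι.left fun A _ _ _ x y hxy => ?_).isClosed_range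
  let gen := Spec.map (CommRingCat.ofHom (algebraMap A (FractionRing A)))
  let T : Over S := Over.mk (y ≫ (TG G S).hom)
  let T' : Over S := Over.mk (gen ≫ y ≫ (TG G S).hom)
  let jg : T' ⟶ T := Over.homMk gen rfl
  let g : T' ⟶ Q := Over.homMk x (by
    show x ≫ Q.hom = gen ≫ y ≫ (TG G S).hom
    rw [← Over.w ι, ← Category.assoc, hxy, Category.assoc])
  haveI : IsLocallyNoetherian T.left := inferInstanceAs (IsLocallyNoetherian (Spec (CommRingCat.of A)))
  haveI : IsLocallyNoetherian T'.left :=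
    inferInstanceAs (IsLocallyNoetherian (Spec (CommRingCat.of (FractionRing A))))
  let K' : FGA.QuotSet (str i) E T' := H24Quot.pullSet (str i) E g K
  haveI := H24Quot.epi_pullQ (str i) E g (cokernel.π K.1.arrow)
  have hKp := H24Quot.quotPull_eq (str i) E g (cokernel.π K.1.arrow) K.1 (H24Quot.kernelSubobject_cokernel_π K.1).symm
  obtain ⟨eg⟩ := H24Quot.nonempty_cokernel_iso (H24Quot.pullQ (str i) E g (cokernel.π K.1.arrow)) K'.1 hKp
  have hP' : ∀ t : T'.left, HilbertFlat.hilb (pX i T') (Om i T' 1) (cokernel K'.1.arrow) t = P := fun t => by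
    refine (HilbertFlat.hilb_congr _ (cI (PicF.XTmap (str i) g) (aT i Q) (FGA.XTmap_fst (str i) g) _).symm
      eg.symm t).trans ?_
    rw [HilbertFlat.hilb_baseChange (isPullback_XTmap' (i := i) g) (isInvertible_Om i Q 1)
      (H10Coh.isFP_of_isCoh _ K.2.1) t]
    exact hK _
  have hsq := isPullback_XTmap' (i := i) jg
  let u : (Scheme.Modules.pullback (PicF.XTmap (str i) jg)).obj (FGA.ET (str i) E T) ⟶ cokernel K'.1.arrow :=
    (FGA.ETiso (str i) E jg).hom ≫ cokernel.π K'.1.arrow
  haveI : Epi u := epi_comp _ _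
  obtain ⟨F₀, π, hπ, hF₀, hfl, e, he⟩ := exists_extension (R := A) hsq
    (H17.ConsProp.isCoh_pullback (aT i T) hE) K'.2.1.1 u
  haveI := hπ
  obtain ⟨e₀⟩ := H24Quot.nonempty_cokernel_iso π (kernelSubobject π) rfl
  let KR : FGA.QuotSet (str i) E T := ⟨kernelSubobject π, H10Coh.isCoh_of_iso e₀ hF₀,
    H24Quot.isFlatOver_congr _ e₀ hfl⟩
  haveI := H24Quot.epi_pullQ (str i) E jg π
  have hres : FGA.quotPull (str i) E jg KR.1 = K'.1 := by
    rw [H24Quot.quotPull_eq (str i) E jg π _ rfl]
    conv_rhs => rw [← H24Quot.kernelSubobject_cokernel_π K'.1]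
    have h1 : H24Quot.pullQ (str i) E jg π ≫ e.hom = cokernel.π K'.1.arrow := by
      rw [H24Quot.pullQ, Category.assoc, he, Iso.inv_hom_id_assoc]
    rw [← h1, kernelSubobject_comp_mono]
  have hPR : ∀ t : T.left, HilbertFlat.hilb (pX i T) (Om i T 1) (cokernel KR.1.arrow) t = P := by
    intro t
    refine (HilbertFlat.hilb_congr _ (Iso.refl _) e₀.symm t).trans ?_
    obtain ⟨z⟩ : Nonempty T'.left := inferInstanceAs (Nonempty (PrimeSpectrum (FractionRing A)))
    have hgen : HilbertFlat.hilb (pX i T) (Om i T 1) F₀ (jg.left z) = P := by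
      rw [← HilbertFlat.hilb_baseChange hsq (isInvertible_Om i T 1) (H10Coh.isFP_of_isCoh _ hF₀) z]
      exact (HilbertFlat.hilb_congr _ (cI (PicF.XTmap (str i) jg) (aT i T) (FGA.XTmap_fst (str i) jg) _) e z).trans
        (hP' z)
    have hspec : ∀ a b : T.left, a ⤳ b → HilbertFlat.hilb (pX i T) (Om i T 1) F₀ a =
        HilbertFlat.hilb (pX i T) (Om i T 1) F₀ b := fun a b hab => by
      obtain ⟨U, hbU, hU⟩ := HilbertFlat.exists_nhd_fibEuler_eq (pX i T) (isInvertible_Om i T 1) hF₀ hfl b
      exact funext fun m => hU a (hab.mem_open U.2 hbU) m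
    let cl : T.left := IsLocalRing.closedPoint A
    have hcl : ∀ a : T.left, a ⤳ cl := fun a =>
      (PrimeSpectrum.le_iff_specializes _ _).1 (IsLocalRing.le_maximalIdeal (PrimeSpectrum.isPrime a).ne_top)
    rw [hspec t cl (hcl t), ← hspec (jg.left z) cl (hcl _), hgen]
  obtain ⟨l, hl, -⟩ := huniv T KR hPR
  have hgl : jg ≫ l = g := (huniv T' K' hP').unique (by rw [← H24Quot.quotPull_comp, hl, hres]) rfl
  refine ⟨l.left, ?_, congrArg (fun z : T' ⟶ Q => z.left) hgl⟩
  refine H11Val.dvrUniqueness_of_isSeparated (TG G S).hom A _ _ ?_ ?_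
  · rw [Category.assoc, Over.w ι]; exact Over.w l
  · rw [← Category.assoc, show Spec.map _ ≫ l.left = x from congrArg (fun z : T' ⟶ Q => z.left) hgl, hxy]

end

end Groth.Agent.H17.QuotSch
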