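import Groth.Agent.H17.QuotSch.Embed
import Groth.Agent.H17.QuotSch.Closed
import Groth.Agent.LeadDev.Filt

/-!
# The space of bounded quotients of `O(c)^p` with fixed Hilbert function
-/

set_option autoImplicit false
set_option linter.style.haveILetI false
set_option backward.isDefEq.respectTransparency false
set_option backward.isDefEq.respectTransparency.types false

universe u

open CategoryTheory CategoryTheory.Limits AlgebraicGeometry
open Groth.Agent Groth.Agent.H22Alg

namespace Groth.Agent.H17.QuotSch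

noncomputable section

/-- A pushout along an epimorphism is a cokernel. -/
theorem nonempty_iso_cokernel_of_isPushout {C : Type*} [Category C] [Abelian C] {A B D P : C} {f : A ⟶ B}
    {g : A ⟶ D} {x : B ⟶ P} {y : D ⟶ P} [Epi g] (h : IsPushout f g x y) :
    Nonempty (cokernel (kernel.ι g ≫ f) ≅ P) := by
  have w : (kernel.ι g ≫ f) ≫ x = 0 := by rw [Category.assoc, h.w, kernel.condition_assoc, zero_comp]
  have hd : cokernel.desc _ x w ≫ h.desc (cokernel.π (kernel.ι g ≫ f))
      (Abelian.epiDesc g (f ≫ cokernel.π _) (by rw [← Category.assoc, cokernel.condition]))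
      (Abelian.comp_epiDesc _ _ _).symm = 𝟙 _ := by
    rw [← cancel_epi (cokernel.π (kernel.ι g ≫ f)), cokernel.π_desc_assoc, h.inl_desc, Category.comp_id]
  refine ⟨⟨cokernel.desc _ x w, h.desc _ _ (Abelian.comp_epiDesc _ _ _).symm, hd, ?_⟩⟩
  refine h.hom_ext (by simp) ?_
  rw [h.inr_desc_assoc, ← cancel_epi g, Abelian.comp_epiDesc_assoc, Category.assoc, cokernel.π_desc, h.w,
    Category.comp_id]

theorem isZero_module_of_isEmpty {Y : Scheme.{u}} [IsEmpty Y] (M : Y.Modules) : IsZero M := by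
  rw [IsZero.iff_id_eq_zero]
  refine Scheme.Modules.hom_ext _ _ fun U => ?_
  obtain rfl : U = ⊥ := TopologicalSpace.Opens.ext (Set.eq_empty_of_isEmpty _)
  have h : IsTerminal (M.presheaf.obj (Opposite.op ⊥)) :=
    TopCat.Sheaf.isTerminalOfEmpty (⟨M.presheaf, M.isSheaf⟩ : TopCat.Sheaf Ab Y.toTopCat)
  exact h.hom_ext _ _

variable {n p c : ℕ} {S X : Scheme.{u}} (i : X ⟶ CohB1.ProjSpaceOver n S) [IsClosedImmersion i]
  [IsLocallyNoetherian S] {E : X.Modules} (hE : Coh.IsCoh E)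
  (θ : (Scheme.Modules.pullback (h0 i)).obj (G0 n p c) ⟶ E) [Epi θ]

variable (E) in
omit θ in
/-- A condition which holds only over the empty base is represented by it. -/
theorem exists_empty (P : ∀ T : Over S, FGA.QuotSet (str i) E T → Prop)
    (hP : ∀ (T : Over S) [IsLocallyNoetherian T.left] (K : FGA.QuotSet (str i) E T), P T K → IsEmpty T.left)
    (hP' : ∀ (T : Over S) (K : FGA.QuotSet (str i) E T), IsEmpty T.left → P T K) :
    ∃ (Q : Over S) (K : FGA.QuotSet (str i) E Q), IsLocallyNoetherian Q.left ∧ P Q K ∧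
      (∀ (T : Over S) [IsLocallyNoetherian T.left] (K' : FGA.QuotSet (str i) E T), P T K' →
        ∃! g : T ⟶ Q, FGA.quotPull (str i) E g K.1 = K'.1) ∧
      ∃ (N : ℕ) (c' : Q.left ⟶ CohB1.ProjSpaceOver N S),
        IsClosedImmersion c' ∧ c' ≫ CohB1.ProjSpaceOver.toBase N S = Q.hom := by
  let Q : Over S := Over.mk (Scheme.emptyTo S)
  haveI : IsEmpty Q.left := inferInstanceAs (IsEmpty (∅ : Scheme.{u}))
  haveI : IsEmpty (PicF.XT (str i) Q) := Function.isEmpty (pX i Q).base
  haveI : IsLocallyNoetherian Q.left := LocallyOfFiniteType.isLocallyNoetherian Q.hom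
  haveI : IsNoetherian (PicF.XT (str i) Q) :=
    { toIsLocallyNoetherian := LocallyOfFiniteType.isLocallyNoetherian (pX i Q) }
  let K : FGA.QuotSet (str i) E Q :=
    ⟨⊤, LeadDev.isCoh_of_isZero (isZero_module_of_isEmpty _), fun x => isEmptyElim x⟩
  refine ⟨Q, K, inferInstance, hP' Q K inferInstance, fun T _ K' hK' => ?_, 0, Scheme.emptyTo _, inferInstance,
    emptyIsInitial.hom_ext _ _⟩
  haveI hT : IsEmpty T.left := hP T K' hK'
  haveI : IsEmpty (PicF.XT (str i) T) := Function.isEmpty (pX i T).base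
  let g : T ⟶ Q := Over.homMk (isInitialOfIsEmpty.to _) (isInitialOfIsEmpty.hom_ext _ _)
  refine ⟨g, ?_, fun g' _ => Over.OverMorphism.ext (isInitialOfIsEmpty.hom_ext _ _)⟩
  have hz := isZero_module_of_isEmpty (FGA.ET (str i) E T)
  haveI : ∀ K₀ : Subobject (FGA.ET (str i) E T), IsIso K₀.arrow := fun K₀ =>
    ⟨0, (isZero_module_of_isEmpty (K₀ : (PicF.XT (str i) T).Modules)).eq_of_src _ _, hz.eq_of_src _ _⟩
  exact (Subobject.eq_top_of_isIso_arrow _).trans (Subobject.eq_top_of_isIso_arrow _).symm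

include θ hE in
/-- Bounded quotients with a fixed Hilbert function form a closed subscheme of a projective space over the base. -/
theorem exists_core {f : ℤ → ℤ} (hb : IsBound.{u} n p c f) (pol : Polynomial ℚ)
    (hpol : ∀ m : ℤ, (f m : ℚ) = pol.eval (m : ℚ)) :
    ∃ (Q : Over S) (K : FGA.QuotSet (str i) E Q), IsLocallyNoetherian Q.left ∧
      (∀ t : Q.left, HilbertFlat.hilb (pX i Q) (Om i Q 1) (cokernel K.1.arrow) t = fun m : ℕ => f m) ∧
      (∀ (T : Over S) [IsLocallyNoetherian T.left] (K' : FGA.QuotSet (str i) E T),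
        (∀ t : T.left, HilbertFlat.hilb (pX i T) (Om i T 1) (cokernel K'.1.arrow) t = fun m : ℕ => f m) →
        ∃! g : T ⟶ Q, FGA.quotPull (str i) E g K.1 = K'.1) ∧
      ∃ (N : ℕ) (c' : Q.left ⟶ CohB1.ProjSpaceOver N S),
        IsClosedImmersion c' ∧ c' ≫ CohB1.ProjSpaceOver.toBase N S = Q.hom := by
  by_cases h0' : f 0 < 0
  · obtain ⟨Q, K, hQ, hK, hu, hc⟩ := exists_empty i E
      (fun T K' => ∀ t : T.left, HilbertFlat.hilb (pX i T) (Om i T 1) (cokernel K'.1.arrow) t = fun m : ℕ => f m)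
      (fun T _ K' hK' => ⟨fun t => not_le.2 h0' (nonneg_of_quot i θ T hb (cokernel.π K'.1.arrow) K'.2.1 K'.2.2
        (fun t m => Int.cast_injective (α := ℚ) ((fibEuler_eq_of_hilb i T K'.2.1 t pol
          (fun j => by rw [congrFun (hK' t) j]; exact_mod_cast hpol j) m).trans (hpol m).symm)) t)⟩)
      (fun T _ hT t => hT.elim t)
    exact ⟨Q, K, hQ, hK, hu, hc⟩
  obtain ⟨r, hr⟩ := Int.eq_ofNat_of_zero_le (not_lt.1 h0')
  obtain ⟨M, o, ho⟩ := exists_evaluation.{u} n p c
  haveI := ho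
  obtain ⟨G, π, Qg, qG, hG⟩ := H26Gr.exists_isGrass_locFree (H26Gr.isFinLocFreeOfRank_freeMod Zs.{u} M) r
  obtain rfl : π = tm G := specULiftZIsTerminal.hom_ext _ _
  haveI := hG.epi
  haveI := H26Gr.isProper_locFree (H26Gr.isFinLocFreeOfRank_freeMod Zs.{u} M) hG
  haveI : IsProper (TG G S).hom := inferInstanceAs (IsProper (pullback.snd (tm G) (tm S)))
  haveI : IsLocallyNoetherian (TG G S).left := LocallyOfFiniteType.isLocallyNoetherian (TG G S).hom
  obtain ⟨FG, πG, hπ, hrel⟩ := exists_rel (o := o) (qG := qG) (θ := θ) (TG G S) (fG G S)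
  haveI := hπ
  have hq : Coh.IsQCoh FG := by
    obtain ⟨ψ, hψ⟩ := hrel
    haveI := epi_bc (pX i (TG G S) ≫ fG G S) qG
    obtain ⟨e⟩ := nonempty_iso_cokernel_of_isPushout hψ
    have hET := H17.ConsProp.isCoh_pullback (aT i (TG G S)) hE
    have hV : ∀ Y : Scheme.{u}, (Vp (FlatMod.freeMod Zs.{u} M) Y).IsQuasicoherent := fun Y =>
      H8Props.FinLocFree.isQCoh_of_isFinLocFree _ (KPullLam.finLocFree_of_rank
        (H26Gr.isFinLocFreeOfRank_pullback (tm Y) (H26Gr.isFinLocFreeOfRank_freeMod Zs.{u} M)))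
    haveI := hV (PicF.XT (str i) (TG G S))
    haveI : ((Scheme.Modules.pullback (pX i (TG G S) ≫ fG G S)).obj Qg).IsQuasicoherent :=
      H8Props.FinLocFree.isQCoh_of_isFinLocFree _
        (KPullLam.finLocFree_of_rank (H26Gr.isFinLocFreeOfRank_pullback _ hG.rank))
    haveI := H10Coh.isQuasicoherent_kernel (bc (pX i (TG G S) ≫ fG G S) qG)
    exact (H10Coh.isCoh_of_iso e (H10Coh.isCoh_cokernel _ inferInstance hET)).1
  have hFG := isCoh_quot i hE (TG G S) πG hq
  obtain ⟨Q, ι, K, hι, hιq, hQn, -, hQh, hu⟩ :=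
    exists_piece o qG i θ hG hb hr.symm pol hpol πG hrel hFG
  haveI := hι
  haveI := hιq
  haveI := hQn
  haveI := isClosedImmersion_piece i ι K (fun m : ℕ => f m) hE hQh hu
  refine ⟨Q, K, hQn, hQh, hu, ?_⟩
  obtain ⟨N, cG, hcG, hcπ⟩ := exists_embedding (H26Gr.isFinLocFreeOfRank_freeMod Zs.{u} M) hG
  have sq := KBaseChangeCl.isPullback_map (n := N) (tm S)
  let cS : (TG G S).left ⟶ KRR.PY N S := sq.lift (fG G S ≫ cG) (TG G S).hom (by
    rw [Category.assoc, hcπ]; exact specULiftZIsTerminal.hom_ext _ _)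
  have hsq : IsPullback cS (fG G S) (KRR.projSpaceMap N (tm S)) cG := by
    refine IsPullback.of_right ?_ (sq.lift_fst _ _ _) sq.flip
    rw [sq.lift_snd, hcπ]
    exact (IsPullback.of_hasPullback (tm G) (tm S)).flip
  haveI : IsClosedImmersion cS := MorphismProperty.of_isPullback hsq.flip hcG
  exact ⟨N, ι.left ≫ cS, inferInstance, by
    show (ι.left ≫ cS) ≫ KRR.pr N S = Q.hom
    rw [Category.assoc, sq.lift_snd]; exact Over.w ι⟩

end

end Groth.Agent.H17.QuotSch
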