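import Groth.Agent.H17.QuotSch.QBC
import Groth.Agent.H26Gr.PlBundle
import Groth.Agent.H26Gr.LocFreeGrass
import Groth.Agent.H26Gr.FreeGrass
import Groth.Agent.H26Gr.MapOfEpi
import Groth.Agent.H7Euler.Trivial
import Groth.Agent.H16Derived.QRep.FreeExtend
import Groth.Agent.H22Alg.ExtPowHom

/-!
# Grassmannians over `Spec ℤ` are closed subschemes of projective spaces
-/

set_option autoImplicit false
set_option linter.style.haveILetI false
set_option backward.isDefEq.respectTransparency false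
set_option backward.isDefEq.respectTransparency.types false

universe u

open CategoryTheory CategoryTheory.Limits AlgebraicGeometry Grass
open Groth.Agent Groth.Agent.H22Alg Groth.Agent.H26Gr

namespace Groth.Agent.H17.QuotSch

noncomputable section

variable {X : Scheme.{u}}

/-- Finite free modules are quotients of larger ones. -/
theorem exists_free_epi_succ (X : Scheme.{u}) (M : ℕ) :
    ∃ p : FlatMod.freeMod X (M + 1) ⟶ FlatMod.freeMod X M, Epi p := by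
  let c : Fin (M + 1) → X.Modules := fun _ => Coh.structureModule X
  let d : Fin M → X.Modules := fun _ => Coh.structureModule X
  let p : (∐ c) ⟶ ∐ d := Sigma.desc (Fin.lastCases 0 fun j => Sigma.ι d j)
  let s : (∐ d) ⟶ ∐ c := Sigma.desc fun j => Sigma.ι c j.castSucc
  have h : s ≫ p = 𝟙 _ := Sigma.hom_ext _ _ fun j => by simp [s, p, c, d]
  haveI : IsSplitEpi p := IsSplitEpi.mk' ⟨s, h⟩
  exact ⟨p, inferInstance⟩

/-- The bundle of a quotient module maps to that of the module by a closed immersion. -/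
theorem exists_closedImmersion_of_epi {G G₁ : Scheme.{u}} {π : G ⟶ X} {π₁ : G₁ ⟶ X} {E₁ E₂ : X.Modules} {e : ℕ}
    {Q : G.Modules} {q : (Scheme.Modules.pullback π).obj E₂ ⟶ Q} {Q₁ : G₁.Modules}
    {q₁ : (Scheme.Modules.pullback π₁).obj E₁ ⟶ Q₁} (v : E₁ ⟶ E₂) [Epi v]
    (hG : IsGrass π E₂ e Q q) (hG₁ : IsGrass π₁ E₁ e Q₁ q₁) [IsProper π] [IsSeparated π₁] :
    ∃ c : G ⟶ G₁, IsClosedImmersion c ∧ c ≫ π₁ = π := by
  haveI := hG.epi
  haveI := epi_pullback_map π v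
  have hs : Epi ((Scheme.Modules.pullback π).map v ≫ q) := epi_comp _ _
  let c := hG₁.lift π Q hG.rank _ hs
  obtain ⟨hc, a, ha⟩ := hG₁.lift_spec π Q hG.rank _ hs
  haveI : IsProper (c ≫ π₁) := by rw [show c ≫ π₁ = π from hc]; infer_instance
  haveI : IsProper c := IsProper.of_comp c π₁
  refine ⟨c, (IsClosedImmersion.iff_isProper_and_mono c).2 ⟨inferInstance, ⟨fun {T} b b' hbb => ?_⟩⟩, hc⟩
  have hb' : b' ≫ π = b ≫ π := by rw [← hc, ← Category.assoc, ← Category.assoc, ← hbb]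
  have key : ∀ (b₀ : T ⟶ G) (hb₀ : b₀ ≫ π = b ≫ π) (h : T ⟶ G₁) (_ : b₀ ≫ c = h) (hh : h ≫ π₁ = b ≫ π),
      ∃ ε : (Scheme.Modules.pullback h).obj Q₁ ≅ (Scheme.Modules.pullback b₀).obj Q,
        quotBC hh q₁ ≫ ε.hom = (Scheme.Modules.pullback (b ≫ π)).map v ≫ quotBC hb₀ q := by
    rintro b₀ hb₀ _ rfl hh
    obtain ⟨ε, hε⟩ := rel_comp (s := quotBC hb₀ ((Scheme.Modules.pullback π).map v ≫ q)) hc hb₀ ⟨a, ha⟩
      ⟨Iso.refl _, Category.comp_id _⟩ hh
    exact ⟨ε, hε.trans (quotBC_pre _ _ _)⟩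
  obtain ⟨ε₁, hε₁⟩ := key b rfl (b ≫ c) rfl (by rw [Category.assoc, hc])
  obtain ⟨ε₂, hε₂⟩ := key b' hb' (b ≫ c) hbb.symm (by rw [Category.assoc, hc])
  haveI := epi_pullback_map (b ≫ π) v
  have h : quotBC (rfl : b ≫ π = b ≫ π) q ≫ (ε₁.symm ≪≫ ε₂).hom = quotBC hb' q := by
    rw [← cancel_epi ((Scheme.Modules.pullback (b ≫ π)).map v), ← Category.assoc, ← hε₁, ← hε₂]
    simp
  exact (hG.univ T (b ≫ π) _ (isFinLocFreeOfRank_pullback b' hG.rank) _ (epi_quotBC hb' q)).unique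
    ⟨rfl, _, h⟩ ⟨hb', Iso.refl _, Category.comp_id _⟩

/-- The Grassmannian of a locally free module on `Spec ℤ` embeds in a projective space. -/
theorem exists_embedding {M r : ℕ} {E : Zs.{u}.Modules} (hE : FlatMod.IsFinLocFreeOfRank M E) {G : Scheme.{u}}
    {π : G ⟶ Zs.{u}} {Q : G.Modules} {q : (Scheme.Modules.pullback π).obj E ⟶ Q} (hG : IsGrass π E r Q q) :
    ∃ (N : ℕ) (c : G ⟶ KRR.PY N Zs.{u}), IsClosedImmersion c ∧ c ≫ KRR.pr N Zs.{u} = π := by
  have hEf := KPullLam.finLocFree_of_rank hE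
  obtain ⟨L, hL⟩ := ExtPowSheaf.exists_isExtPow r (H8Props.FinLocFree.isQCoh_of_isFinLocFree _ hEf)
  have hLf := ExtPowHom.finLocFree_of_isExtPow hEf hL
  have hLr : FlatMod.IsFinLocFreeOfRank (M.choose r) L :=
    PB.rank_of_rk hLf fun x => by rw [KExists.rk_extPow hEf hL, KExists.rk_of_rank hE]
  obtain ⟨P, πP, O1, w, hP⟩ := exists_isGrass_locFree hLr 1
  haveI := isProper_locFree hLr hP
  obtain ⟨c₁, hc₁, hcπ⟩ := exists_plucker_bundle hG hE hL hP.isProjBundle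
  obtain ⟨N, v, hv⟩ := H16Derived.QRep.exists_free_epi_affine (H8Props.FinLocFree.isQCoh_of_isFinLocFree _ hLf)
    (H16Derived.KFlat.Stalk.isCoh_of_isFinLocFree hLf).2
  obtain ⟨v', hv'⟩ := exists_free_epi_succ Zs.{u} N
  obtain ⟨qP, hqP⟩ := H7Euler.Trivial.exists_isProjBundle N Zs.{u}
  haveI : Epi (v' ≫ v) := epi_comp _ _
  obtain ⟨c₂, hc₂, hc₂π⟩ := exists_closedImmersion_of_epi (v' ≫ v) hP (IsGrass.of_isProjBundle hqP)
  exact ⟨N, c₁ ≫ c₂, inferInstance, by rw [Category.assoc, hc₂π, hcπ]⟩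

end

end Groth.Agent.H17.QuotSch
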