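import Groth.Agent.H17.QuotSch.RegBound

/-!
# Vanishing on a fibre, from the bound
-/

set_option autoImplicit false
set_option linter.style.haveILetI false

universe u

open CategoryTheory CategoryTheory.Limits AlgebraicGeometry
open Groth.Agent Groth.Agent.H22Alg
attribute [local instance 10000] Groth.Agent.H10Coh.hasSheafifyAb Groth.Agent.H10Coh.hasWeakSheafifyAb Groth.Agent.H10Coh.hasExtAb Groth.Agent.H10Coh.enoughInjAb

namespace Groth.Agent.H17.QuotSch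

noncomputable section

/-- `c` bounds the regularity for the Hilbert function `P`, given on all twists by `f`: the kernels of quotients of
`O^p` with Hilbert function `t ↦ f (t - c)` are `c`-regular. -/
def IsBound (n p c : ℕ) (f : ℤ → ℤ) : Prop :=
  ∀ (k : Type u) [Field k] (E : (CohB1.ProjSpace n k).Modules)
    (g : FlatMod.freeMod (CohB1.ProjSpace n k) p ⟶ E), Coh.IsCoh E → Epi g →
    (∀ t : ℤ, Curv2.euler k (CohB1.ProjSpace n k) (CohB1.tensorMod E (Twist.twistProjSpace n k t)) = f (t - c)) →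
    CMField.Reg (fun d : ℤ => Twist.twistProjSpace n k d) (kernel g) c

variable {n p c : ℕ} {f : ℤ → ℤ} {k : Type u} [Field k] {S : ShortComplex (CohB1.ProjSpace n k).Modules}

theorem field_van (hb : IsBound.{u} n p c f) (hS : S.ShortExact)
    (e : S.X₂ ≅ CohB1.tensorMod (FlatMod.freeMod (CohB1.ProjSpace n k) p) (Twist.twistProjSpace n k c))
    (h₃ : Coh.IsCoh S.X₃)
    (hf : ∀ t : ℤ, Curv2.euler k (CohB1.ProjSpace n k) (CohB1.tensorMod S.X₃ (Twist.twistProjSpace n k t)) = f t) :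
    ∀ i : ℕ, 1 ≤ i →
      CMField.Van i (CohB1.tensorMod S.X₁ (Twist.twistProjSpace n k (-(i : ℤ)))) ∧ CMField.Van i S.X₃ := by
  haveI := hS.epi_g
  haveI := CMHyper.noetherian k n
  have hs := CMField.setup k n
  let O : ℤ → (CohB1.ProjSpace n k).Modules := fun d => Twist.twistProjSpace n k d
  have hi : ∀ a : ℤ, PicF.IsInvertible (O a) := hs.fam.inv
  obtain ⟨e0⟩ := H11Tilde.nonempty_twist_zero_iso (CohB1.polyGrading n k)
  obtain ⟨ec⟩ := hs.fam.add (c : ℤ) (-(c : ℤ))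
  let u : CohB1.tensorMod S.X₂ (O (-(c : ℤ))) ≅ FlatMod.freeMod (CohB1.ProjSpace n k) p :=
    PicGrp.tensorModIso e (Iso.refl _) ≪≫ H10Coh.Tw.assoc _ _ _ ≪≫
      PicGrp.tensorModIso (Iso.refl _) (ec ≪≫ eqToIso (congrArg O (add_neg_cancel (c : ℤ))) ≪≫ e0) ≪≫
        H10Coh.Tw.commIso _ _ ≪≫ RegSheaf.leftUnit _
  let S' := H10Coh.Tw.seq S (hi (-(c : ℤ)))
  have hS' : S'.ShortExact := H10Coh.Tw.shortExact_seq hS (hi _)
  haveI hg' : Epi S'.g := hS'.epi_g
  haveI : Mono S'.f := hS'.mono_f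
  let g : FlatMod.freeMod (CohB1.ProjSpace n k) p ⟶ CohB1.tensorMod S.X₃ (O (-(c : ℤ))) := u.inv ≫ S'.g
  haveI : Epi g := @epi_comp _ _ _ _ _ u.inv inferInstance S'.g hg'
  have hadd : ∀ (M : (CohB1.ProjSpace n k).Modules) (a b r : ℤ), r = a + b →
      Nonempty (CohB1.tensorMod (CohB1.tensorMod M (O a)) (O b) ≅ CohB1.tensorMod M (O r)) := fun M a b r h => by
    obtain ⟨eab⟩ := hs.fam.add a b
    exact ⟨H10Coh.Tw.assoc _ _ _ ≪≫ PicGrp.tensorModIso (Iso.refl _) (eab ≪≫ eqToIso (congrArg O h.symm))⟩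
  have hreg := hb k _ g (H11Ample.isCoh_tensor h₃ (hi _)) inferInstance fun t => by
    obtain ⟨et⟩ := hadd S.X₃ (-(c : ℤ)) t (t - c) (by ring)
    rw [H25Euler.euler_congr et, hf]
  let eK : kernel g ≅ CohB1.tensorMod S.X₁ (O (-(c : ℤ))) :=
    kernelIsIsoComp u.inv S'.g ≪≫
      (hS'.fIsKernel.conePointUniqueUpToIso (kernelIsKernel S'.g)).symm
  intro i hi1
  refine ⟨?_, ?_⟩
  · obtain ⟨e1⟩ := hadd S.X₁ (-(c : ℤ)) ((c : ℤ) - i) (-(i : ℤ)) (by ring)
    exact H10Coh.Tw.subsingleton_of_iso (PicGrp.tensorModIso eK (Iso.refl _) ≪≫ e1) (hreg i hi1)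
  · obtain ⟨e1⟩ := hadd S.X₃ (-(c : ℤ)) (c : ℤ) 0 (by ring)
    have hv : CMField.Van i (CohB1.tensorMod (CohB1.tensorMod S.X₃ (O (-(c : ℤ)))) (O c)) := by
      refine H10Coh.Tw.subsingleton_X₃
        (H10Coh.shortExact_sh (H10Coh.Tw.shortExact_seq (MumfordQuot.shortExact_kernel g) (hi c))) ?_ ?_
      · exact CMStep.van_free k n p hi1 (by omega) (Iso.refl _)
      · have := CMField.reg_add hs hreg (i + 1) (i + 1) (by omega)
        rwa [show (c : ℤ) + ((i + 1 : ℕ) : ℤ) - ((i + 1 : ℕ) : ℤ) = c by omega] at this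
    exact H10Coh.Tw.subsingleton_of_iso
      (e1 ≪≫ PicGrp.tensorModIso (Iso.refl _) e0 ≪≫ H10Coh.Tw.commIso _ _ ≪≫ RegSheaf.leftUnit _) hv

end

end Groth.Agent.H17.QuotSch
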