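import Groth.Agent.H17.QuotSch.Core
import Groth.Agent.H17.QuotSch.TwistSub

/-!
# The space of quotients with fixed Hilbert function
-/

set_option autoImplicit false
set_option linter.style.haveILetI false
set_option backward.isDefEq.respectTransparency false
set_option backward.isDefEq.respectTransparency.types false

universe u

open CategoryTheory CategoryTheory.Limits AlgebraicGeometry
open Groth.Agent Groth.Agent.H22Alg
open Groth.Agent.H25Theta (pb pT pC pI tI pO)

namespace Groth.Agent.H17.QuotSch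

noncomputable section

variable {n : ℕ} {S X : Scheme.{u}} (i : X ⟶ CohB1.ProjSpaceOver n S)

/-- All twisted fibre Euler characteristics of `F` are given by `f`. -/
def Eul (T : Over S) (F : (PicF.XT (str i) T).Modules) (f : ℤ → ℤ) : Prop :=
  ∀ (t : T.left) (m : ℤ), HilbertFlat.fibEuler (pX i T) (CohB1.tensorMod F (Om i T m)) t = f m

theorem eul_congr {T : Over S} {F F' : (PicF.XT (str i) T).Modules} (e : F ≅ F') {f : ℤ → ℤ} (h : Eul i T F f) :
    Eul i T F' f := fun t m =>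
  (PnHilbert.fibEuler_congr _ (PicGrp.tensorModIso e.symm (Iso.refl _)) t).trans (h t m)

theorem nonempty_Om_add (T : Over S) (a b c : ℤ) (h : c = a + b) :
    Nonempty (CohB1.tensorMod (Om i T a) (Om i T b) ≅ Om i T c) := by
  obtain ⟨e⟩ := RegSheaf.nonempty_twistOver_add (n := n) (T := S) a b c h
  exact ⟨(pT (aT i T) _ _).symm ≪≫
    (Scheme.Modules.pullback _).mapIso ((pT i _ _).symm ≪≫ (Scheme.Modules.pullback i).mapIso e)⟩

theorem eul_shift {T : Over S} {F : (PicF.XT (str i) T).Modules} (d : ℤ) {f g : ℤ → ℤ}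
    (hfg : ∀ m, g m = f (d + m)) :
    Eul i T (CohB1.tensorMod F (Om i T d)) g ↔ Eul i T F f := by
  have h : ∀ (t : T.left) (m : ℤ),
      HilbertFlat.fibEuler (pX i T) (CohB1.tensorMod (CohB1.tensorMod F (Om i T d)) (Om i T m)) t =
        HilbertFlat.fibEuler (pX i T) (CohB1.tensorMod F (Om i T (d + m))) t := fun t m => by
    obtain ⟨e⟩ := nonempty_Om_add i T d m (d + m) rfl
    exact PnHilbert.fibEuler_congr _ (H10Coh.Tw.assoc _ _ _ ≪≫ PicGrp.tensorModIso (Iso.refl _) e) t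
  exact ⟨fun H t m => by
    have := H t (m - d)
    rw [h, hfg, add_sub_cancel] at this
    exact this, fun H t m => by rw [h, hfg]; exact H t _⟩

variable [IsClosedImmersion i]

theorem hilb_eq_of_eul {T : Over S} {F : (PicF.XT (str i) T).Modules} {f : ℤ → ℤ} (h : Eul i T F f) (t : T.left) :
    HilbertFlat.hilb (pX i T) (Om i T 1) F t = fun m : ℕ => f m :=
  funext fun m => (hilb_eq i T F t m).trans (h t m)

theorem eul_of_hilb {T : Over S} [IsLocallyNoetherian T.left] {F : (PicF.XT (str i) T).Modules} (hF : Coh.IsCoh F)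
    {f : ℤ → ℤ} (pol : Polynomial ℚ) (hpol : ∀ m : ℤ, (f m : ℚ) = pol.eval (m : ℚ))
    (h : ∀ t, HilbertFlat.hilb (pX i T) (Om i T 1) F t = fun m : ℕ => f m) : Eul i T F f := fun t m =>
  Int.cast_injective (α := ℚ) ((fibEuler_eq_of_hilb i T hF t pol
    (fun j => by rw [congrFun (h t) j]; exact_mod_cast hpol j) m).trans (hpol m).symm)

variable [IsLocallyNoetherian S] {E : X.Modules}

include i in
theorem isLocallyNoetherian_source : IsLocallyNoetherian X := by
  haveI : IsProper (CohB1.ProjSpaceOver.toBase n S) := H27Weil.isProper_toBase n S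
  exact LocallyOfFiniteType.isLocallyNoetherian (str i)

/-- A quotient of twists gives a quotient of `O(c)^p` for a twist. -/
theorem exists_theta (p : ℕ) (ν d : ℤ) (c : ℕ) (hc : (c : ℤ) = ν + d)
    (q : (∐ fun _ : Fin p => (Scheme.Modules.pullback i).obj (Twist.twistOver n S ν)) ⟶ E) [Epi q] :
    ∃ θ : (Scheme.Modules.pullback (h0 i)).obj (G0 n p c) ⟶
        CohB1.tensorMod E ((Scheme.Modules.pullback i).obj (Twist.twistOver n S d)), Epi θ := by
  let B := (Scheme.Modules.pullback i).obj (Twist.twistOver n S d)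
  let L := (Scheme.Modules.pullback (h0 i)).obj (Twist.twistOver n Zs.{u} (c : ℤ))
  have hB : PicF.IsInvertible B := H11Ample.isInvertible_pullback _ (RegSheaf.isInvertible_twistOver _)
  haveI := isEquivalence_twist hB
  haveI := isEquivalence_twist (H11Ample.isInvertible_pullback (h0 i) (RegSheaf.isInvertible_twistOver (n := n) (T := Zs.{u}) (c : ℤ)))
  obtain ⟨e₁⟩ := BCReg.nonempty_pull_twist (n := n) (tm S) (c : ℤ)
  obtain ⟨e₂⟩ := RegSheaf.nonempty_twistOver_add (n := n) (T := S) ν d (c : ℤ) hc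
  let eν : L ≅ CohB1.tensorMod ((Scheme.Modules.pullback i).obj (Twist.twistOver n S ν)) B :=
    (cI i (ψT S n) rfl _).symm ≪≫ (Scheme.Modules.pullback i).mapIso (e₁ ≪≫ e₂.symm) ≪≫ pT i _ _
  let G := (DCoh.tensorBi (X := X)).flip.obj B
  let Lf := (DCoh.tensorBi (X := X)).flip.obj L
  let a : (Scheme.Modules.pullback (h0 i)).obj (G0 n p c) ≅ Lf.obj (FlatMod.freeMod X p) :=
    pT (h0 i) _ _ ≪≫ PicGrp.tensorModIso (MumfordStep.pullFreeIso (h0 i) p) (Iso.refl _)
  let b : Lf.obj (FlatMod.freeMod X p) ≅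
      G.obj (∐ fun _ : Fin p => (Scheme.Modules.pullback i).obj (Twist.twistOver n S ν)) :=
    PreservesCoproduct.iso Lf _ ≪≫ Sigma.mapIso (fun _ => RegSheaf.leftUnit L ≪≫ eν) ≪≫
      (PreservesCoproduct.iso G _).symm
  haveI : Epi (G.map q) := inferInstance
  exact ⟨a.hom ≫ b.hom ≫ G.map q, epi_comp' inferInstance (epi_comp' inferInstance inferInstance)⟩

variable (hE : Coh.IsCoh E)

omit [IsClosedImmersion i] [IsLocallyNoetherian S] in
theorem kernel_pullQ_twQ_iff {d : ℤ} {T T' : Over S} (g : T' ⟶ T) {F : (PicF.XT (str i) T).Modules}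
    (π : FGA.ET (str i) E T ⟶ F) [Epi π] {F₁ : (PicF.XT (str i) T').Modules} (π₁ : FGA.ET (str i) E T' ⟶ F₁)
    [Epi π₁] :
    kernelSubobject (H24Quot.pullQ (str i) (CohB1.tensorMod E ((Scheme.Modules.pullback i).obj (Twist.twistOver n S d))) g
        (twQ (str i) E ((Scheme.Modules.pullback i).obj (Twist.twistOver n S d)) π)) =
      kernelSubobject (twQ (str i) E ((Scheme.Modules.pullback i).obj (Twist.twistOver n S d)) π₁) ↔
    kernelSubobject (H24Quot.pullQ (str i) E g π) = kernelSubobject π₁ := by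
  have hB : PicF.IsInvertible ((Scheme.Modules.pullback i).obj (Twist.twistOver n S d)) :=
    H11Ample.isInvertible_pullback _ (RegSheaf.isInvertible_twistOver _)
  haveI := H24Quot.epi_pullQ (str i) E g π
  obtain ⟨Θ, hΘ⟩ := nonempty_pullQ_twQ (f := str i) (A := E)
    (B := (Scheme.Modules.pullback i).obj (Twist.twistOver n S d)) g π
  rw [← kernel_twQ_iff hB (H24Quot.pullQ (str i) E g π) π₁]
  constructor <;> intro h <;> refine Eq.trans ?_ h
  · simp only [← hΘ, kernelSubobject_comp_mono]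
  · simp only [← hΘ, kernelSubobject_comp_mono]

include hE in
/-- Quotients of a quotient of twists with fixed Hilbert function form a closed subscheme of projective space. -/
theorem exists_fixed (p : ℕ) (ν : ℤ)
    (q : (∐ fun _ : Fin p => (Scheme.Modules.pullback i).obj (Twist.twistOver n S ν)) ⟶ E) [Epi q]
    (f : ℤ → ℤ) (pol : Polynomial ℚ) (hpol : ∀ m : ℤ, (f m : ℚ) = pol.eval (m : ℚ)) :
    ∃ (Q : Over S) (K : FGA.QuotSet (str i) E Q), IsLocallyNoetherian Q.left ∧
      Eul i Q (cokernel K.1.arrow) f ∧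
      (∀ (T : Over S) [IsLocallyNoetherian T.left] (K' : FGA.QuotSet (str i) E T),
        Eul i T (cokernel K'.1.arrow) f → ∃! g : T ⟶ Q, FGA.quotPull (str i) E g K.1 = K'.1) ∧
      ∃ (N : ℕ) (c' : Q.left ⟶ CohB1.ProjSpaceOver N S),
        IsClosedImmersion c' ∧ c' ≫ CohB1.ProjSpaceOver.toBase N S = Q.hom := by
  haveI := isLocallyNoetherian_source i
  obtain ⟨m₀, hm₀⟩ := exists_reg_kernel.{u} n p (fun t => f (t - ν))
  let c : ℕ := m₀.toNat
  let d : ℤ := (c : ℤ) - ν
  let f' : ℤ → ℤ := fun m => f (d + m)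
  let pol' : Polynomial ℚ := pol.comp (Polynomial.X + Polynomial.C (d : ℚ))
  have hpol' : ∀ m : ℤ, (f' m : ℚ) = pol'.eval (m : ℚ) := fun m => by
    simp [f', pol', hpol, add_comm]
  have hb : IsBound.{u} n p c f' := fun k _ F g hF hg hFe =>
    hm₀ k F g hF hg (fun t => (hFe t).trans (congrArg f (by simp only [d]; ring))) c (Int.self_le_toNat m₀)
  let B := (Scheme.Modules.pullback i).obj (Twist.twistOver n S d)
  have hB : PicF.IsInvertible B := H11Ample.isInvertible_pullback _ (RegSheaf.isInvertible_twistOver _)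
  obtain ⟨θ, hθ⟩ := exists_theta i p ν d c (by simp [d]) q
  haveI := hθ
  obtain ⟨Q, K', hQ, hQh, hu, hemb⟩ :=
    exists_core i (H11Ample.isCoh_tensor hE hB) θ hb pol' hpol'
  haveI := hQ
  obtain ⟨F, π, e, hπ, hπe⟩ := exists_untwist (f := str i) (A := E) hB (cokernel.π K'.1.arrow)
  haveI := hπ
  haveI := epi_twQ (f := str i) (A := E) hB π
  have hK' : kernelSubobject (twQ (str i) E B π) = K'.1 := by
    rw [← H24Quot.kernelSubobject_cokernel_π K'.1, ← hπe, kernelSubobject_comp_mono]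
  have hBT : ∀ T : Over S, PicF.IsInvertible (Om i T d) := fun T => isInvertible_Om i T d
  obtain ⟨L', hL', ⟨eL⟩⟩ := H11Sym.exists_inverse (hBT Q)
  let eF : F ≅ CohB1.tensorMod (cokernel K'.1.arrow) L' :=
    (PicGrp.tensorModIso e.symm (Iso.refl _) ≪≫ H10Coh.Tw.assoc _ _ _ ≪≫
      PicGrp.tensorModIso (Iso.refl _) (H10Coh.Tw.commIso _ _ ≪≫ eL) ≪≫ H10Coh.Tw.rightUnitIso _).symm
  have hF : Coh.IsCoh F := H10Coh.isCoh_of_iso eF.symm (H11Ample.isCoh_tensor K'.2.1 hL')
  have hFf : FlatMod.IsFlatOver (pX i Q) F :=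
    H24Quot.isFlatOver_congr _ eF.symm (H10Inj.FlatTwist.isFlatOver_tensor (pX i Q) K'.2.2 hL')
  obtain ⟨e₀⟩ := H24Quot.nonempty_cokernel_iso π (kernelSubobject π) rfl
  let K : FGA.QuotSet (str i) E Q :=
    ⟨kernelSubobject π, H10Coh.isCoh_of_iso e₀ hF, H24Quot.isFlatOver_congr _ e₀ hFf⟩
  refine ⟨Q, K, hQ, eul_congr i e₀ ?_, fun T _ K₁ hK₁ => ?_, hemb⟩
  · exact (eul_shift i d (g := f') fun _ => rfl).1
      (eul_congr i e.symm (eul_of_hilb i K'.2.1 pol' hpol' hQh))
  let π₁ := cokernel.π K₁.1.arrow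
  haveI := epi_twQ (f := str i) (A := E) hB π₁
  obtain ⟨e₁⟩ := H24Quot.nonempty_cokernel_iso (twQ (str i) E B π₁) _ rfl
  let K₁' : FGA.QuotSet (str i) (CohB1.tensorMod E B) T := ⟨kernelSubobject (twQ (str i) E B π₁),
    H10Coh.isCoh_of_iso e₁ (H11Ample.isCoh_tensor K₁.2.1 (hBT T)),
    H24Quot.isFlatOver_congr _ e₁ (H10Inj.FlatTwist.isFlatOver_tensor (pX i T) K₁.2.2 (hBT T))⟩
  have key : ∀ g : T ⟶ Q, FGA.quotPull (str i) (CohB1.tensorMod E B) g K'.1 = K₁'.1 ↔
      FGA.quotPull (str i) E g K.1 = K₁.1 := fun g => by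
    haveI := H24Quot.epi_pullQ (str i) E g π
    rw [H24Quot.quotPull_eq (str i) (CohB1.tensorMod E B) g (twQ (str i) E B π) _ hK'.symm,
      H24Quot.quotPull_eq (str i) E g π K.1 rfl]
    exact (kernel_pullQ_twQ_iff i g π π₁).trans (by rw [H24Quot.kernelSubobject_cokernel_π])
  obtain ⟨g, hg, hgu⟩ := hu T K₁' fun t => hilb_eq_of_eul i
    (eul_congr i e₁ ((eul_shift i d (g := f') fun _ => rfl).2 hK₁)) t
  exact ⟨g, (key g).1 hg, fun g' hg' => hgu g' ((key g').2 hg')⟩

end

end Groth.Agent.H17.QuotSch
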