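import Groth.Agent.H17.QuotSch.HilbScheme
import Groth.Agent.H17.HilbBC.Main
import Groth.Agent.LeadChow.SegreBase
import Groth.Agent.H8Props.FunDescent.Functor

/-!
# Nested pairs of closed subschemes
-/

set_option autoImplicit false
set_option linter.style.haveILetI false
set_option backward.isDefEq.respectTransparency false
set_option backward.isDefEq.respectTransparency.types false

universe u

open CategoryTheory CategoryTheory.Limits AlgebraicGeometry
open Groth.Agent Groth.Agent.H22Alg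

namespace Groth.Agent.H17.QuotSch

noncomputable section

/-- Pushing an ideal sheaf forward along a closed immersion and back. -/
theorem comap_map_of_mono {A B : Scheme.{u}} (c : A ⟶ B) [IsClosedImmersion c] (J : A.IdealSheafData) :
    (J.map c).comap c = J := by
  have h : IsPullback J.subschemeι (𝟙 _) c (J.subschemeι ≫ c) := by
    refine ⟨⟨(Category.id_comp _).symm⟩, ⟨PullbackCone.IsLimit.mk _ (fun s => s.snd) (fun s => ?_) (fun s => ?_)
      (fun s m _ hm => ?_)⟩⟩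
    · rw [← cancel_mono c, Category.assoc]
      exact s.condition.symm
    · exact Category.comp_id _
    · simpa using hm
  show ((J.subschemeι ≫ c).ker).comap c = J
  rw [← Scheme.IdealSheafData.ker_fst_of_isClosedImmersion, ← h.isoPullback_inv_fst,
    Scheme.Hom.ker_comp_of_isIso, J.ker_subschemeι]

/-- The image of a closed subscheme under a closed immersion is isomorphic to it. -/
theorem exists_iso_map {A B : Scheme.{u}} (c : A ⟶ B) [IsClosedImmersion c] (J : A.IdealSheafData) :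
    ∃ a : J.subscheme ≅ (J.map c).subscheme, a.hom ≫ (J.map c).subschemeι = J.subschemeι ≫ c :=
  ⟨asIso (J.subschemeι ≫ c).toImage, (J.subschemeι ≫ c).toImage_imageι⟩

/-- A closed subscheme inside the image of a closed immersion comes from the source. -/
theorem exists_map_eq {A B : Scheme.{u}} (c : A ⟶ B) [IsClosedImmersion c] (I : B.IdealSheafData) (h : c.ker ≤ I) :
    ∃ J : A.IdealSheafData, J.map c = I := by
  let l := IsClosedImmersion.lift c I.subschemeι (by rwa [I.ker_subschemeι])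
  have hl : l ≫ c = I.subschemeι := IsClosedImmersion.lift_fac _ _ _
  exact ⟨l.ker, by rw [Scheme.IdealSheafData.map_ker, hl, I.ker_subschemeι]⟩

/-- Proper flat families in the source and target of a closed immersion over the base. -/
theorem mem_hilb_map_iff {A B T : Scheme.{u}} (c : A ⟶ B) [IsClosedImmersion c] (p : B ⟶ T) (q : A ⟶ T)
    (h : c ≫ p = q) (J : A.IdealSheafData) :
    (IsProper ((J.map c).subschemeι ≫ p) ∧ Flat ((J.map c).subschemeι ≫ p)) ↔
      (IsProper (J.subschemeι ≫ q) ∧ Flat (J.subschemeι ≫ q)) := by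
  obtain ⟨a, ha⟩ := exists_iso_map c J
  have e : J.subschemeι ≫ q = a.hom ≫ (J.map c).subschemeι ≫ p := by rw [reassoc_of% ha, h]
  rw [e]
  exact and_congr (MorphismProperty.cancel_left_of_respectsIso @IsProper _ _).symm
    (MorphismProperty.cancel_left_of_respectsIso @Flat _ _).symm

theorem XTmap_comp_aux {X S : Scheme.{u}} (p : X ⟶ S) {T T' T'' : Over S} (h : T'' ⟶ T') (g : T' ⟶ T) {g' : T'' ⟶ T}
    (e : h ≫ g = g') : PicF.XTmap p g' = PicF.XTmap p h ≫ PicF.XTmap p g := by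
  subst e
  apply pullback.hom_ext <;> simp [PicF.XTmap, pullback.map]

variable {X S : Scheme.{u}} (p : X ⟶ S) {H : Over S} (Z : FGA.HilbSet p H)

/-- The universal closed subscheme over the parameter space. -/
abbrev subProj : Z.1.subscheme ⟶ H.left := Z.1.subschemeι ≫ PicF.XTproj p H

variable {T : Over S} (g : T ⟶ H)

/-- The pulled back subscheme inside the base change. -/
def incl : PicF.XT (subProj p Z) (Over.mk g.left) ⟶ PicF.XT p T :=
  pullback.lift (pullback.fst _ _ ≫ Z.1.subschemeι ≫ pullback.fst p H.hom) (pullback.snd _ _) (by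
    simp only [Category.assoc, pullback.condition]
    rw [← Over.w g]
    refine Eq.trans ?_ (Category.assoc _ _ _)
    refine Eq.trans ?_ (congrArg (· ≫ H.hom) (pullback.condition (f := subProj p Z) (g := g.left)))
    simp only [Category.assoc]
    rfl)

theorem incl_snd : incl p Z g ≫ PicF.XTproj p T = PicF.XTproj (subProj p Z) (Over.mk g.left) :=
  pullback.lift_snd _ _ _

theorem incl_fst : incl p Z g ≫ pullback.fst p T.hom =
    pullback.fst (subProj p Z) g.left ≫ Z.1.subschemeι ≫ pullback.fst p H.hom :=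
  pullback.lift_fst _ _ _

theorem isPullback_incl :
    IsPullback (incl p Z g) (pullback.fst (subProj p Z) g.left) (PicF.XTmap p g) Z.1.subschemeι := by
  refine IsPullback.of_right ?_ ?_ (H8Props.FunDescent.isPullback_XTmap p g).flip
  · rw [incl_snd]
    exact (IsPullback.of_hasPullback (subProj p Z) g.left).flip
  · symm
    apply pullback.hom_ext
    · rw [Category.assoc, Category.assoc, FGA.XTmap_fst, incl_fst]
    · have hsq := (H8Props.FunDescent.isPullback_XTmap p g).w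
      show (_ ≫ Z.1.subschemeι) ≫ PicF.XTproj p H = (_ ≫ PicF.XTmap p g) ≫ PicF.XTproj p H
      rw [Category.assoc, Category.assoc, hsq, ← Category.assoc (incl p Z g), incl_snd]
      exact pullback.condition

instance isClosedImmersion_incl : IsClosedImmersion (incl p Z g) :=
  MorphismProperty.of_isPullback (isPullback_incl p Z g).flip inferInstance

theorem ker_incl : (incl p Z g).ker = FGA.hilbPull p g Z.1 := by
  rw [← (isPullback_incl p Z g).flip.isoPullback_hom_snd, Scheme.Hom.ker_comp_of_isIso]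
  rfl

/-- The inclusion commutes with base change. -/
theorem comap_map_incl {T' : Over S} (h : T' ⟶ T) {g' : T' ⟶ H} (hg : h ≫ g = g')
    (h' : Over.mk g'.left ⟶ Over.mk g.left) (hh : h'.left = h.left)
    (J : (PicF.XT (subProj p Z) (Over.mk g.left)).IdealSheafData) :
    (J.map (incl p Z g)).comap (PicF.XTmap p h) = (FGA.hilbPull (subProj p Z) h' J).map (incl p Z g') := by
  have hfst : PicF.XTmap (subProj p Z) h' ≫ pullback.fst (subProj p Z) g.left =
      pullback.fst (subProj p Z) g'.left := FGA.XTmap_fst (subProj p Z) h'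
  have hsq : IsPullback (incl p Z g') (PicF.XTmap (subProj p Z) h') (PicF.XTmap p h) (incl p Z g) := by
    refine IsPullback.of_bot ?_ ?_ (isPullback_incl p Z g)
    · rw [hfst, ← XTmap_comp_aux p h g hg]
      exact isPullback_incl p Z g'
    · apply pullback.hom_ext
      · show (_ ≫ PicF.XTmap p h) ≫ pullback.fst p T.hom = (_ ≫ _) ≫ pullback.fst p T.hom
        rw [Category.assoc, FGA.XTmap_fst, Category.assoc, incl_fst, incl_fst, ← hfst, Category.assoc]
      · show (_ ≫ PicF.XTmap p h) ≫ PicF.XTproj p T = (_ ≫ _) ≫ PicF.XTproj p T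
        rw [Category.assoc, (H8Props.FunDescent.isPullback_XTmap p h).w, ← Category.assoc, incl_snd,
          Category.assoc, incl_snd, (H8Props.FunDescent.isPullback_XTmap (subProj p Z) h').w, hh]
  show ((J.subschemeι ≫ incl p Z g).ker).comap (PicF.XTmap p h) =
    ((pullback.snd J.subschemeι (PicF.XTmap (subProj p Z) h')).ker).map (incl p Z g')
  have hbc := (IsPullback.of_hasPullback J.subschemeι (PicF.XTmap (subProj p Z) h')).flip.paste_horiz hsq
  rw [← Scheme.IdealSheafData.ker_fst_of_isClosedImmersion, Scheme.IdealSheafData.map_ker,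
    ← hbc.isoPullback_hom_fst, Scheme.Hom.ker_comp_of_isIso]

variable [IsProper p]

/-- A relative Hilbert space over a Hilbert space parametrises nested pairs. -/
theorem exists_nested_of_hilb (hZ : FGA.HilbRepresentedBy p H Z)
    {H₁ : Over H.left} (W : FGA.HilbSet (subProj p Z) H₁)
    (hW : FGA.HilbRepresentedBy (subProj p Z) H₁ W) :
    ∃ (W₁ W₂ : FGA.HilbSet p (Over.mk (H₁.hom ≫ H.hom))), W₂.1 ≤ W₁.1 ∧
      ∀ (T : Over S) [IsLocallyNoetherian T.left] (Y₁ Y₂ : FGA.HilbSet p T), Y₂.1 ≤ Y₁.1 →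
        ∃! g : T ⟶ Over.mk (H₁.hom ≫ H.hom),
          FGA.hilbPull p g W₁.1 = Y₁.1 ∧ FGA.hilbPull p g W₂.1 = Y₂.1 := by
  let HH : Over S := Over.mk (H₁.hom ≫ H.hom)
  let gH : HH ⟶ H := Over.homMk H₁.hom rfl
  let W₁ : FGA.HilbSet p HH :=
    ⟨W.1.map (incl p Z gH), (mem_hilb_map_iff (incl p Z gH) _ _ (incl_snd p Z gH) W.1).2 W.2⟩
  have hW₂ : IsProper ((FGA.hilbPull p gH Z.1).subschemeι ≫ PicF.XTproj p HH) ∧
      Flat ((FGA.hilbPull p gH Z.1).subschemeι ≫ PicF.XTproj p HH) := by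
    rw [← ker_incl, ← Scheme.IdealSheafData.map_bot]
    refine (mem_hilb_map_iff (incl p Z gH) _ _ (incl_snd p Z gH) ⊥).2 ?_
    haveI := Z.2.1
    haveI := Z.2.2
    exact ⟨inferInstanceAs (IsProper (_ ≫ pullback.snd (subProj p Z) gH.left)),
      inferInstanceAs (Flat (_ ≫ pullback.snd (subProj p Z) gH.left))⟩
  refine ⟨W₁, ⟨FGA.hilbPull p gH Z.1, hW₂⟩, ?_, fun T _ Y₁ Y₂ hle => ?_⟩
  · show FGA.hilbPull p gH Z.1 ≤ W.1.map (incl p Z gH)
    rw [← ker_incl, ← Scheme.IdealSheafData.map_bot]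
    exact Scheme.IdealSheafData.map_mono _ bot_le
  obtain ⟨g₂, hg₂, hg₂u⟩ := hZ.2 T Y₂
  obtain ⟨J, hJ⟩ := exists_map_eq (incl p Z g₂) Y₁.1 (by rwa [ker_incl, hg₂])
  have hJm := (mem_hilb_map_iff (incl p Z g₂) _ _ (incl_snd p Z g₂) J).1 (by rw [hJ]; exact Y₁.2)
  haveI : IsLocallyNoetherian (Over.mk g₂.left).left := ‹IsLocallyNoetherian T.left›
  obtain ⟨g₁, hg₁, hg₁u⟩ := hW.2 (Over.mk g₂.left) ⟨J, hJm⟩
  have key : ∀ (g : T ⟶ HH) (hg : g ≫ gH = g₂) (g' : Over.mk g₂.left ⟶ H₁), g'.left = g.left →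
      (FGA.hilbPull p g W₁.1 = Y₁.1 ↔ FGA.hilbPull (subProj p Z) g' W.1 = J) := by
    intro g hg g' hg'
    rw [H17.HilbBC.hilbPull_eq_comap, comap_map_incl p Z gH g hg g' hg' W.1, ← hJ]
    exact ⟨fun h => by rw [← comap_map_of_mono (incl p Z g₂) J, ← h, comap_map_of_mono], fun h => by rw [h]⟩
  have hw₁ : g₁.left ≫ H₁.hom = g₂.left := Over.w g₁
  let G : T ⟶ HH := Over.homMk g₁.left (by
    show g₁.left ≫ H₁.hom ≫ H.hom = T.hom
    rw [← Category.assoc, hw₁, Over.w g₂])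
  have hG : G ≫ gH = g₂ := Over.OverMorphism.ext hw₁
  have h2 : ∀ g : T ⟶ HH, FGA.hilbPull p g (FGA.hilbPull p gH Z.1) = FGA.hilbPull p (g ≫ gH) Z.1 := fun g => by
    rw [H17.HilbBC.hilbPull_eq_comap, H17.HilbBC.hilbPull_eq_comap, H17.HilbBC.hilbPull_eq_comap,
      ← Scheme.IdealSheafData.comap_comp, XTmap_comp_aux p g gH rfl]
  refine ⟨G, ⟨(key G hG g₁ rfl).2 hg₁, by rw [h2, hG, hg₂]⟩, ?_⟩
  rintro g ⟨hg, hg'⟩
  have e : g ≫ gH = g₂ := hg₂u _ ((h2 g).symm.trans hg')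
  let g' : Over.mk g₂.left ⟶ H₁ := Over.homMk g.left (congrArg (fun z : T ⟶ H => z.left) e)
  have := hg₁u g' ((key g e g' rfl).1 hg)
  exact Over.OverMorphism.ext (congrArg (fun z : Over.mk g₂.left ⟶ H₁ => z.left) this)

omit p Z T g in
/-- A closed subscheme of a projective space over a closed subscheme of a projective space is one. -/
theorem exists_closed_comp {A B S : Scheme.{u}} {m n : ℕ} (a : A ⟶ CohB1.ProjSpaceOver m B) [IsClosedImmersion a]
    (b : B ⟶ CohB1.ProjSpaceOver n S) [IsClosedImmersion b] :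
    ∃ (N : ℕ) (c : A ⟶ CohB1.ProjSpaceOver N S), IsClosedImmersion c ∧
      c ≫ CohB1.ProjSpaceOver.toBase N S =
        a ≫ CohB1.ProjSpaceOver.toBase m B ≫ b ≫ CohB1.ProjSpaceOver.toBase n S := by
  obtain ⟨φ, hφ, hφw⟩ := LeadChow.Segre.exists_segre S m n
  have sq := KBaseChangeCl.isPullback_map (n := m) (b ≫ CohB1.ProjSpaceOver.toBase n S)
  let l : CohB1.ProjSpaceOver m B ⟶
      pullback (CohB1.ProjSpaceOver.toBase m S) (CohB1.ProjSpaceOver.toBase n S) :=
    pullback.lift (KRR.projSpaceMap m (b ≫ CohB1.ProjSpaceOver.toBase n S))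
      (CohB1.ProjSpaceOver.toBase m B ≫ b) (by rw [Category.assoc]; exact sq.w)
  have hl : IsPullback l (CohB1.ProjSpaceOver.toBase m B)
      (pullback.snd (CohB1.ProjSpaceOver.toBase m S) (CohB1.ProjSpaceOver.toBase n S)) b := by
    refine IsPullback.of_right ?_ (pullback.lift_snd _ _ _) (IsPullback.of_hasPullback _ _)
    rw [pullback.lift_fst]
    exact sq
  haveI : IsClosedImmersion l := MorphismProperty.of_isPullback hl.flip inferInstance
  haveI := hφ
  refine ⟨_, a ≫ l ≫ φ, inferInstance, ?_⟩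
  rw [Category.assoc, Category.assoc, hφw, pullback.lift_fst_assoc, sq.w]

omit p Z T g in
/-- Disjoint unions of projective schemes over a disjoint union of projective schemes. -/
theorem exists_pieces {S : Scheme.{u}} {H : Over S} {H₁ : Over H.left}
    (h₂ : ∃ (ι : Type u) (P : ι → Scheme.{u}) (e : (∐ P) ≅ H.left) (r : ι → ℕ)
      (c : ∀ a, P a ⟶ CohB1.ProjSpaceOver (r a) S),
      ∀ a, IsClosedImmersion (c a) ∧
        c a ≫ CohB1.ProjSpaceOver.toBase (r a) S = Limits.Sigma.ι P a ≫ e.hom ≫ H.hom)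
    (h₁ : ∃ (ι : Type u) (P : ι → Scheme.{u}) (e : (∐ P) ≅ H₁.left) (r : ι → ℕ)
      (c : ∀ a, P a ⟶ CohB1.ProjSpaceOver (r a) H.left),
      ∀ a, IsClosedImmersion (c a) ∧
        c a ≫ CohB1.ProjSpaceOver.toBase (r a) H.left = Limits.Sigma.ι P a ≫ e.hom ≫ H₁.hom) :
    ∃ (ι : Type u) (P : ι → Scheme.{u}) (e : (∐ P) ≅ H₁.left) (r : ι → ℕ)
      (c : ∀ a, P a ⟶ CohB1.ProjSpaceOver (r a) S),
      ∀ a, IsClosedImmersion (c a) ∧
        c a ≫ CohB1.ProjSpaceOver.toBase (r a) S = Limits.Sigma.ι P a ≫ e.hom ≫ H₁.hom ≫ H.hom := by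
  obtain ⟨I₂, P₂, e₂, r₂, c₂, hc₂⟩ := h₂
  obtain ⟨I₁, P₁, e₁, r₁, c₁, hc₁⟩ := h₁
  let u₂ : ∀ b, P₂ b ⟶ H.left := fun b => Sigma.ι P₂ b ≫ e₂.hom
  let u₁ : ∀ a, P₁ a ⟶ H₁.left := fun a => Sigma.ι P₁ a ≫ e₁.hom
  let Q : I₁ × I₂ → Scheme.{u} := fun ab => pullback (u₁ ab.1 ≫ H₁.hom) (u₂ ab.2)
  let v : ∀ ab, Q ab ⟶ H₁.left := fun ab => pullback.fst (u₁ ab.1 ≫ H₁.hom) (u₂ ab.2) ≫ u₁ ab.1
  have hsurj₁ : ∀ y : H₁.left, ∃ a x, u₁ a x = y := fun y => by
    obtain ⟨a, x, hx⟩ := (sigmaOpenCover P₁).exists_eq (e₁.inv y)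
    refine ⟨a, x, ?_⟩
    show (Sigma.ι P₁ a ≫ e₁.hom) x = y
    rw [Scheme.Hom.comp_apply, show Sigma.ι P₁ a x = e₁.inv y from hx, ← Scheme.Hom.comp_apply, e₁.inv_hom_id]
    rfl
  have hsurj₂ : ∀ y : H.left, ∃ b x, u₂ b x = y := fun y => by
    obtain ⟨b, x, hx⟩ := (sigmaOpenCover P₂).exists_eq (e₂.inv y)
    refine ⟨b, x, ?_⟩
    show (Sigma.ι P₂ b ≫ e₂.hom) x = y
    rw [Scheme.Hom.comp_apply, show Sigma.ι P₂ b x = e₂.inv y from hx, ← Scheme.Hom.comp_apply, e₂.inv_hom_id]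
    rfl
  have hinj : ∀ {I : Type u} (P : I → Scheme.{u}) {Y : Scheme.{u}} (e : (∐ P) ≅ Y) (a b : I) (x : P a) (y : P b),
      (Sigma.ι P a ≫ e.hom) x = (Sigma.ι P b ≫ e.hom) y → a = b := fun P Y e a b x y h => by
    rw [Scheme.Hom.comp_apply, Scheme.Hom.comp_apply] at h
    exact congrArg Sigma.fst ((sigmaι_eq_iff (g := P) a b x y).1 (e.hom.injective h))
  have hcov : ⨆ ab, (v ab).opensRange = ⊤ := by
    refine eq_top_iff.2 fun y _ => ?_
    obtain ⟨a, x, rfl⟩ := hsurj₁ y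
    obtain ⟨b, z, hz⟩ := hsurj₂ (H₁.hom (u₁ a x))
    obtain ⟨w, hw, -⟩ := Scheme.Pullback.exists_preimage_pullback (f := u₁ a ≫ H₁.hom) (g := u₂ b) x z
      (by rw [Scheme.Hom.comp_apply]; exact hz.symm)
    refine TopologicalSpace.Opens.mem_iSup.2 ⟨(a, b), w, ?_⟩
    show (pullback.fst _ _ ≫ u₁ a) w = u₁ a x
    rw [Scheme.Hom.comp_apply, hw]
  have hdis : Pairwise (Function.onFun Disjoint fun ab => (v ab).opensRange) := by
    rintro ⟨a, b⟩ ⟨a', b'⟩ hne
    simp only [Function.onFun, disjoint_iff]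
    refine TopologicalSpace.Opens.ext (Set.eq_empty_iff_forall_notMem.2 ?_)
    rintro y ⟨⟨w, hw⟩, ⟨w', hw'⟩⟩
    have hy : u₁ a (pullback.fst (u₁ a ≫ H₁.hom) (u₂ b) w) =
        u₁ a' (pullback.fst (u₁ a' ≫ H₁.hom) (u₂ b') w') := by
      rw [← Scheme.Hom.comp_apply, ← Scheme.Hom.comp_apply]
      exact hw.trans hw'.symm
    obtain rfl : a = a' := hinj P₁ e₁ a a' _ _ hy
    refine hne (congrArg (Prod.mk a) (hinj P₂ e₂ b b' (pullback.snd (u₁ a ≫ H₁.hom) (u₂ b) w)
      (pullback.snd (u₁ a ≫ H₁.hom) (u₂ b') w') ?_))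
    show u₂ b _ = u₂ b' _
    rw [← Scheme.Hom.comp_apply, ← Scheme.Hom.comp_apply, ← pullback.condition, ← pullback.condition]
    exact (Scheme.Hom.comp_apply _ (u₁ a ≫ H₁.hom) w).trans ((Scheme.Hom.comp_apply (u₁ a) H₁.hom _).trans
      ((congrArg H₁.hom hy).trans ((Scheme.Hom.comp_apply (u₁ a) H₁.hom _).symm.trans
        (Scheme.Hom.comp_apply _ (u₁ a ≫ H₁.hom) w').symm)))
  obtain ⟨hcl⟩ := nonempty_isColimit_cofanMk_of v hcov hdis
  let e : (∐ Q) ≅ H₁.left := (coproductIsCoproduct Q).coconePointUniqueUpToIso hcl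
  have he : ∀ ab, Sigma.ι Q ab ≫ e.hom = v ab := fun ab =>
    IsColimit.comp_coconePointUniqueUpToIso_hom (coproductIsCoproduct Q) hcl ⟨ab⟩
  have hc : ∀ ab, ∃ (N : ℕ) (c : Q ab ⟶ CohB1.ProjSpaceOver N S), IsClosedImmersion c ∧
      c ≫ CohB1.ProjSpaceOver.toBase N S = Sigma.ι Q ab ≫ e.hom ≫ H₁.hom ≫ H.hom := by
    rintro ⟨a, b⟩
    haveI := (hc₁ a).1
    haveI := (hc₂ b).1
    have sq := KBaseChangeCl.isPullback_map (n := r₁ a) (u₂ b)
    let l : Q (a, b) ⟶ CohB1.ProjSpaceOver (r₁ a) (P₂ b) :=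
      sq.lift (pullback.fst _ _ ≫ c₁ a) (pullback.snd (u₁ a ≫ H₁.hom) (u₂ b)) (by
        rw [Category.assoc]
        show _ ≫ c₁ a ≫ CohB1.ProjSpaceOver.toBase (r₁ a) H.left = _
        rw [(hc₁ a).2, ← Category.assoc (Sigma.ι P₁ a)]
        exact pullback.condition)
    have hl : IsPullback l (pullback.fst (u₁ a ≫ H₁.hom) (u₂ b)) (KRR.projSpaceMap (r₁ a) (u₂ b)) (c₁ a) := by
      refine IsPullback.of_right ?_ (sq.lift_fst _ _ _) sq.flip
      rw [sq.lift_snd, show c₁ a ≫ KRR.pr (r₁ a) H.left = u₁ a ≫ H₁.hom from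
        (hc₁ a).2.trans (Category.assoc _ _ _).symm]
      exact (IsPullback.of_hasPullback _ _).flip
    haveI : IsClosedImmersion l := MorphismProperty.of_isPullback hl.flip inferInstance
    obtain ⟨N, c, hc, hcw⟩ := exists_closed_comp l (c₂ b)
    refine ⟨N, c, hc, hcw.trans ?_⟩
    rw [(hc₂ b).2, ← Category.assoc (Sigma.ι Q (a, b)), he]
    show l ≫ KRR.pr (r₁ a) (P₂ b) ≫ Sigma.ι P₂ b ≫ e₂.hom ≫ H.hom = (pullback.fst _ _ ≫ u₁ a) ≫ H₁.hom ≫ H.hom
    rw [← Category.assoc l, sq.lift_snd, ← Category.assoc (Sigma.ι P₂ b), ← Category.assoc (pullback.snd _ _),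
      ← pullback.condition]
    simp only [Category.assoc]
  choose N c hc using hc
  exact ⟨I₁ × I₂, Q, e, N, c, hc⟩

omit p Z T g in
/-- Nested pairs of closed subschemes of projective space. -/
theorem exists_flag (S : Scheme.{u}) [IsLocallyNoetherian S] (r : ℕ) :
    ∃ (H : Over S) (W₁ W₂ : FGA.HilbSet (CohB1.ProjSpaceOver.toBase r S) H),
      W₂.1 ≤ W₁.1 ∧ IsLocallyNoetherian H.left ∧
      (∀ (T : Over S) [IsLocallyNoetherian T.left] (Y₁ Y₂ : FGA.HilbSet (CohB1.ProjSpaceOver.toBase r S) T),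
          Y₂.1 ≤ Y₁.1 →
          ∃! g : T ⟶ H, FGA.hilbPull (CohB1.ProjSpaceOver.toBase r S) g W₁.1 = Y₁.1 ∧
            FGA.hilbPull (CohB1.ProjSpaceOver.toBase r S) g W₂.1 = Y₂.1) ∧
      ∃ (ι : Type u) (P : ι → Scheme.{u}) (e : (∐ P) ≅ H.left) (m : ι → ℕ)
        (c : ∀ a, P a ⟶ CohB1.ProjSpaceOver (m a) S),
        ∀ a, IsClosedImmersion (c a) ∧
          c a ≫ CohB1.ProjSpaceOver.toBase (m a) S = Limits.Sigma.ι P a ≫ e.hom ≫ H.hom := by
  obtain ⟨H₂, Z₂, hZ₂, hp₂⟩ := exists_hilb (𝟙 (CohB1.ProjSpaceOver r S)) (Category.id_comp _)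
  haveI := hZ₂.1
  haveI : IsProper (CohB1.ProjSpaceOver.toBase r S) := H27Weil.isProper_toBase r S
  have sq := KBaseChangeCl.isPullback_map (n := r) H₂.hom
  obtain ⟨H₁, W, hW, hp₁⟩ := exists_hilb (Z₂.1.subschemeι ≫ sq.isoPullback.inv)
    (show _ = subProj (CohB1.ProjSpaceOver.toBase r S) Z₂ from
      (Category.assoc _ _ _).trans (congrArg (Z₂.1.subschemeι ≫ ·) sq.isoPullback_inv_snd))
  obtain ⟨W₁, W₂, hle, hu⟩ := exists_nested_of_hilb (CohB1.ProjSpaceOver.toBase r S) Z₂ hZ₂ W hW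
  exact ⟨_, W₁, W₂, hle, hW.1, hu, exists_pieces hp₂ hp₁⟩

end

end Groth.Agent.H17.QuotSch
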