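import Groth.Prelude.Def_FGA
import Groth.Prelude.Def_Flatn
import Groth.Agent.H8Props.FunDescent.Functor
import Groth.Agent.H8Props.FibreIsoLocus
import Groth.Agent.H12AlgSp.LocPCancel
import Mathlib.AlgebraicGeometry.Morphisms.FlatDescent

/-!
# The open locus of graphs in the Hilbert scheme of a product
-/

set_option autoImplicit false
set_option linter.style.haveILetI false
set_option backward.isDefEq.respectTransparency false
set_option backward.isDefEq.respectTransparency.types false

universe u

open CategoryTheory CategoryTheory.Limits AlgebraicGeometry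
open Groth.Agent

namespace Groth.Agent.H17.QuotSch.GraphLocus

noncomputable section

variable {X Y S : Scheme.{u}} (gX : X ⟶ S) (gY : Y ⟶ S)

/-- The structure map of the product. -/
abbrev ff : pullback gX gY ⟶ S := pullback.fst gX gY ≫ gX

/-- The projection of the base change of the product to that of `X`. -/
def prX (T : Over S) : PicF.XT (ff gX gY) T ⟶ pullback T.hom gX :=
  pullback.lift (pullback.snd _ _) (pullback.fst _ _ ≫ pullback.fst gX gY)
    ((Category.assoc _ _ _).trans pullback.condition).symm

theorem prX_fst (T : Over S) : prX gX gY T ≫ pullback.fst T.hom gX = PicF.XTproj (ff gX gY) T :=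
  pullback.lift_fst _ _ _

theorem prX_snd (T : Over S) :
    prX gX gY T ≫ pullback.snd T.hom gX = pullback.fst _ _ ≫ pullback.fst gX gY :=
  pullback.lift_snd _ _ _

theorem isPullback_prX (T : Over S) :
    IsPullback (prX gX gY T) (pullback.fst _ _) (pullback.snd T.hom gX) (pullback.fst gX gY) := by
  refine IsPullback.of_right ?_ (prX_snd gX gY T) (IsPullback.of_hasPullback T.hom gX)
  rw [prX_fst]
  exact (IsPullback.of_hasPullback (ff gX gY) T.hom).flip

instance isSeparated_prX [IsSeparated gY] (T : Over S) : IsSeparated (prX gX gY T) :=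
  MorphismProperty.of_isPullback (isPullback_prX gX gY T).flip inferInstance

variable {gX}

/-- The base change map on `X`. -/
def mapX {T' T : Over S} (g : T' ⟶ T) : pullback T'.hom gX ⟶ pullback T.hom gX :=
  pullback.lift (pullback.fst _ _ ≫ g.left) (pullback.snd _ _) (by rw [Category.assoc, Over.w g]; exact pullback.condition)

theorem isPullback_mapX {T' T : Over S} (g : T' ⟶ T) :
    IsPullback (mapX (gX := gX) g) (pullback.fst T'.hom gX) (pullback.fst T.hom gX) g.left := by
  refine IsPullback.of_right ?_ (pullback.lift_fst _ _ _) (IsPullback.of_hasPullback T.hom gX).flip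
  rw [Over.w g, show mapX (gX := gX) g ≫ pullback.snd T.hom gX = pullback.snd T'.hom gX from pullback.lift_snd _ _ _]
  exact (IsPullback.of_hasPullback T'.hom gX).flip

theorem isPullback_XTmap_prX {T' T : Over S} (g : T' ⟶ T) :
    IsPullback (PicF.XTmap (ff gX gY) g) (prX gX gY T') (prX gX gY T) (mapX g) := by
  refine IsPullback.of_bot ?_ ?_ (isPullback_mapX (gX := gX) g)
  · rw [prX_fst, prX_fst]
    exact H8Props.FunDescent.isPullback_XTmap (ff gX gY) g
  · apply pullback.hom_ext
    · rw [Category.assoc, Category.assoc, prX_fst, show mapX (gX := gX) g ≫ pullback.fst T.hom gX =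
        pullback.fst T'.hom gX ≫ g.left from pullback.lift_fst _ _ _, ← Category.assoc (prX gX gY T'), prX_fst]
      exact (H8Props.FunDescent.isPullback_XTmap (ff gX gY) g).w
    · rw [Category.assoc, Category.assoc, prX_snd, show mapX (gX := gX) g ≫ pullback.snd T.hom gX =
        pullback.snd T'.hom gX from pullback.lift_snd _ _ _, prX_snd, ← Category.assoc, FGA.XTmap_fst]

/-- The restriction of the projection to a closed subscheme is an isomorphism after base change iff the base change
of that restriction is. -/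
theorem isIso_hilbPull_iff {T' T : Over S} (g : T' ⟶ T) (I : (PicF.XT (ff gX gY) T).IdealSheafData) :
    IsIso ((FGA.hilbPull (ff gX gY) g I).subschemeι ≫ prX gX gY T') ↔
      IsIso (pullback.snd (I.subschemeι ≫ prX gX gY T) (mapX g)) := by
  let c := pullback.snd I.subschemeι (PicF.XTmap (ff gX gY) g)
  have h1 : (FGA.hilbPull (ff gX gY) g I).subschemeι ≫ prX gX gY T' = inv c.toImage ≫ c ≫ prX gX gY T' := by
    have e : inv c.toImage ≫ c = (FGA.hilbPull (ff gX gY) g I).subschemeι := by
      rw [IsIso.inv_comp_eq]; exact c.toImage_imageι.symm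
    rw [← e, Category.assoc]
  have hp := (IsPullback.of_hasPullback I.subschemeι (PicF.XTmap (ff gX gY) g)).paste_vert
    (isPullback_XTmap_prX gY g)
  rw [h1, ← hp.isoPullback_hom_snd]
  exact (MorphismProperty.cancel_left_of_respectsIso (MorphismProperty.isomorphisms Scheme.{u}) _ _).trans
    (MorphismProperty.cancel_left_of_respectsIso (MorphismProperty.isomorphisms Scheme.{u}) _ _)

/-- Isomorphy over a point of the base is seen after base change. -/
theorem isIso_fibre_of_baseChange {T' T : Over S} (g : T' ⟶ T) {Z : Scheme.{u}} (q : Z ⟶ pullback T.hom gX)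
    [IsIso (pullback.snd q (mapX g))] (t : T'.left) :
    IsIso (pullback.snd q ((pullback.fst T.hom gX).fiberι (g.left t))) := by
  let m := mapX (gX := gX) g
  let g₀ := pullback.fst T.hom gX
  let g₁ := pullback.fst T'.hom gX
  have sq := isPullback_fiberToSpecResidueField_of_isPullback (isPullback_mapX (gX := gX) g) t
  let r := Spec.map (g.left.residueFieldMap t)
  have hr : (@Surjective ⊓ @Flat ⊓ @QuasiCompact : MorphismProperty Scheme.{u}) r := by
    refine ⟨⟨⟨fun x => ⟨IsLocalRing.closedPoint _, Subsingleton.elim (α := PrimeSpectrum _) _ _⟩⟩, ?_⟩,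
      inferInstanceAs (QuasiCompact r)⟩
    refine (HasRingHomProperty.Spec_iff (P := @Flat)).2 ?_
    letI := (g.left.residueFieldMap t).hom.toAlgebra
    exact inferInstanceAs (Module.Flat _ _)
  let j := pullback.map g₁ (T'.left.fromSpecResidueField t) g₀ (T.left.fromSpecResidueField (g.left t)) m r g.left
    (isPullback_mapX (gX := gX) g).w.symm (by simp [r])
  have hj : (@Surjective ⊓ @Flat ⊓ @QuasiCompact : MorphismProperty Scheme.{u}) j := by
    haveI := hr.1.1
    haveI := hr.1.2
    haveI := hr.2
    exact ⟨⟨MorphismProperty.of_isPullback (P := @Surjective) sq.flip hr.1.1,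
      MorphismProperty.of_isPullback (P := @Flat) sq.flip hr.1.2⟩,
      MorphismProperty.of_isPullback (P := @QuasiCompact) sq.flip hr.2⟩
  have hw : j ≫ g₀.fiberι (g.left t) = g₁.fiberι t ≫ m := pullback.lift_fst _ _ _
  haveI h₁ : IsIso (pullback.snd q (g₁.fiberι t ≫ m)) := by
    have h := MorphismProperty.pullback_snd (P := MorphismProperty.isomorphisms Scheme.{u})
      (pullback.snd q m) (g₁.fiberι t) ‹_›
    rw [← pullbackLeftPullbackSndIso_hom_snd q m (g₁.fiberι t)] at h
    haveI : IsIso ((pullbackLeftPullbackSndIso q m (g₁.fiberι t)).hom ≫ pullback.snd q (g₁.fiberι t ≫ m)) := h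
    exact IsIso.of_isIso_comp_left (pullbackLeftPullbackSndIso q m (g₁.fiberι t)).hom _
  refine MorphismProperty.of_pullback_snd_of_descendsAlong (P := MorphismProperty.isomorphisms Scheme.{u})
    (Q := @Surjective ⊓ @Flat ⊓ @QuasiCompact) (g := j) hj ?_
  rw [← pullbackLeftPullbackSndIso_hom_snd q (g₀.fiberι (g.left t)) j]
  refine (MorphismProperty.cancel_left_of_respectsIso (MorphismProperty.isomorphisms Scheme.{u}) _ _).2 ?_
  have key : ∀ k, k = g₁.fiberι t ≫ m → IsIso (pullback.snd q k) := by rintro k rfl; exact h₁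
  exact key _ hw

variable (gX)

/-- The graph of a morphism. -/
abbrev graph (T : Over S) (a : pullback T.hom gX ⟶ Y) (ha : a ≫ gY = pullback.snd T.hom gX ≫ gX) :
    pullback T.hom gX ⟶ PicF.XT (ff gX gY) T :=
  pullback.lift (pullback.lift (pullback.snd T.hom gX) a ha.symm) (pullback.fst T.hom gX)
    ((pullback.lift_fst_assoc _ _ _ _).trans pullback.condition.symm)

theorem graph_prX (T : Over S) (a : pullback T.hom gX ⟶ Y) (ha : a ≫ gY = pullback.snd T.hom gX ≫ gX) :
    graph gX gY T a ha ≫ prX gX gY T = 𝟙 _ := by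
  apply pullback.hom_ext
  · rw [Category.assoc, prX_fst, Category.id_comp]
    exact pullback.lift_snd _ _ _
  · rw [Category.assoc, prX_snd, Category.id_comp, pullback.lift_fst_assoc, pullback.lift_fst]

/-- Closed subschemes mapping isomorphically to `X` are graphs. -/
theorem exists_graph [IsSeparated gY] (T : Over S) (I : (PicF.XT (ff gX gY) T).IdealSheafData) :
    IsIso (I.subschemeι ≫ prX gX gY T) ↔
      ∃ (a : pullback T.hom gX ⟶ Y) (ha : a ≫ gY = pullback.snd T.hom gX ≫ gX), I = (graph gX gY T a ha).ker := by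
  constructor
  · intro h
    let l := inv (I.subschemeι ≫ prX gX gY T) ≫ I.subschemeι
    have hl : l ≫ prX gX gY T = 𝟙 _ := by simp [l]
    have h1 : l ≫ pullback.fst (ff gX gY) T.hom ≫ pullback.fst gX gY = pullback.snd T.hom gX := by
      rw [← prX_snd, ← Category.assoc, hl, Category.id_comp]
    have ha : (l ≫ pullback.fst (ff gX gY) T.hom ≫ pullback.snd gX gY) ≫ gY = pullback.snd T.hom gX ≫ gX := by
      rw [← h1]
      simp only [Category.assoc]
      rw [pullback.condition (f := gX) (g := gY)]
    refine ⟨_, ha, ?_⟩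
    · have e : graph gX gY T _ ha = l := by
        apply pullback.hom_ext
        · rw [pullback.lift_fst]
          apply pullback.hom_ext
          · rw [pullback.lift_fst, Category.assoc, h1]
          · rw [pullback.lift_snd]
            simp [l]
        · rw [pullback.lift_snd, show pullback.snd (ff gX gY) T.hom = prX gX gY T ≫ pullback.fst T.hom gX from
            (prX_fst gX gY T).symm, ← Category.assoc, hl, Category.id_comp]
      rw [e, Scheme.Hom.ker_comp_of_isIso, I.ker_subschemeι]
  · rintro ⟨a, ha, rfl⟩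
    let c := graph gX gY T a ha
    haveI : IsClosedImmersion (c ≫ prX gX gY T) := by rw [graph_prX]; infer_instance
    haveI : IsClosedImmersion c := IsClosedImmersion.of_comp c (prX gX gY T)
    have e : inv c.toImage ≫ c = c.ker.subschemeι := by
      rw [IsIso.inv_comp_eq]; exact c.toImage_imageι.symm
    rw [show c.ker.subschemeι ≫ prX gX gY T = inv c.toImage from by
      rw [← e, Category.assoc, graph_prX, Category.comp_id]]
    infer_instance

theorem graph_ker_injective [IsSeparated gY] (T : Over S) (a b : pullback T.hom gX ⟶ Y)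
    (ha : a ≫ gY = pullback.snd T.hom gX ≫ gX) (hb : b ≫ gY = pullback.snd T.hom gX ≫ gX)
    (h : (graph gX gY T a ha).ker = (graph gX gY T b hb).ker) : a = b := by
  haveI : IsClosedImmersion (graph gX gY T a ha ≫ prX gX gY T) := by rw [graph_prX]; infer_instance
  haveI : IsClosedImmersion (graph gX gY T a ha) := IsClosedImmersion.of_comp _ (prX gX gY T)
  have hl := IsClosedImmersion.lift_fac (graph gX gY T a ha) (graph gX gY T b hb) h.le
  have hid : IsClosedImmersion.lift (graph gX gY T a ha) (graph gX gY T b hb) h.le = 𝟙 _ := by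
    have := congrArg (· ≫ prX gX gY T) hl
    simp only [Category.assoc] at this
    rw [graph_prX, graph_prX, Category.comp_id] at this
    exact this
  rw [hid, Category.id_comp] at hl
  have := congrArg (fun z => z ≫ pullback.fst (ff gX gY) T.hom ≫ pullback.snd gX gY) hl
  simpa using this

/-- The open locus of graphs in the Hilbert scheme of a product. -/
theorem exists_graph_locus [IsLocallyNoetherian S] [IsProper gX] [Flat gX] [IsSeparated gY]
    (H : Over S) [IsLocallyNoetherian H.left] (Z : FGA.HilbSet (ff gX gY) H) :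
    ∃ U : H.left.Opens, ∀ (T : Over S) (g : T ⟶ H),
      Set.range g.left ⊆ (U : Set H.left) ↔
        IsIso ((FGA.hilbPull (ff gX gY) g Z.1).subschemeι ≫ prX gX gY T) := by
  let q : Z.1.subscheme ⟶ pullback H.hom gX := Z.1.subschemeι ≫ prX gX gY H
  let g₀ := pullback.fst H.hom gX
  haveI : IsProper g₀ := inferInstanceAs (IsProper (pullback.fst H.hom gX))
  haveI : LocallyOfFinitePresentation g₀ :=
    H12AlgSp.lfp_of_lft_of_isLocallyNoetherian g₀
  have hq : q ≫ g₀ = Z.1.subschemeι ≫ PicF.XTproj (ff gX gY) H := by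
    show (_ ≫ prX gX gY H) ≫ pullback.fst H.hom gX = _
    rw [Category.assoc, prX_fst]
  haveI : IsProper (q ≫ g₀) := by rw [hq]; exact Z.2.1
  haveI : Flat (q ≫ g₀) := by rw [hq]; exact Z.2.2
  haveI : LocallyOfFinitePresentation (q ≫ g₀) :=
    H12AlgSp.lfp_of_lft_of_isLocallyNoetherian (q ≫ g₀)
  obtain ⟨U, hU, hiso⟩ := H8Props.FibreCriterion.exists_isIso_morphismRestrict q g₀
  refine ⟨U, fun T g => ?_⟩
  rw [isIso_hilbPull_iff gY g Z.1]
  refine ⟨fun hg => ?_, fun h => ?_⟩
  · refine H8Props.FibreCriterion.isIso_restrict_snd q (g₀ ⁻¹ᵁ U) (mapX g) ?_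
    rintro _ ⟨x, rfl⟩
    rw [Scheme.Opens.range_ι]
    show g₀ (mapX (gX := gX) g x) ∈ U
    rw [← Scheme.Hom.comp_apply, (isPullback_mapX (gX := gX) g).w, Scheme.Hom.comp_apply]
    exact hg ⟨_, rfl⟩
  · rintro _ ⟨t, rfl⟩
    exact (hU _).2 (isIso_fibre_of_baseChange g q t)

end

end Groth.Agent.H17.QuotSch.GraphLocus
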