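import Groth.Agent.H17.QuotSch.Points
import Groth.Agent.H22Alg.PnHilbert
import Groth.Agent.H11Ample.RelPullback

/-!
# Hilbert functions of quotients on `X_T`
-/

set_option autoImplicit false
set_option linter.style.haveILetI false
set_option backward.isDefEq.respectTransparency false
set_option backward.isDefEq.respectTransparency.types false

universe u

open CategoryTheory CategoryTheory.Limits AlgebraicGeometry
open Groth.Agent Groth.Agent.H22Alg
open Groth.Agent.H25Theta (pb pT pC pI tI pO)
attribute [local instance 10000] Groth.Agent.H10Coh.hasSheafifyAb Groth.Agent.H10Coh.hasWeakSheafifyAb Groth.Agent.H10Coh.hasExtAb Groth.Agent.H10Coh.enoughInjAb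

namespace Groth.Agent.H17.QuotSch

noncomputable section

variable {n : ℕ} {S X : Scheme.{u}} (i : X ⟶ CohB1.ProjSpaceOver n S) (T : Over S)

/-- The pullback of `O(m)` to `X_T`. -/
abbrev Om (m : ℤ) : (PicF.XT (str i) T).Modules :=
  (Scheme.Modules.pullback (aT i T)).obj ((Scheme.Modules.pullback i).obj (Twist.twistOver n S m))

theorem isInvertible_Om (m : ℤ) : PicF.IsInvertible (Om i T m) :=
  H11Ample.isInvertible_pullback _ (H11Ample.isInvertible_pullback _ (RegSheaf.isInvertible_twistOver m))

theorem nonempty_pow_Om (m : ℕ) : Nonempty (CohB1.tensorPow (Om i T 1) m ≅ Om i T m) := by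
  obtain ⟨e₀⟩ := PnHilbert.nonempty_tensorPow_twist (n := n) (S := S) m
  obtain ⟨e₁⟩ := H11Ample.exists_iso_pullback_tensorPow i (RegSheaf.isInvertible_twistOver (n := n) (T := S) 1) m
  obtain ⟨e₂⟩ := H11Ample.exists_iso_pullback_tensorPow (aT i T)
    (H11Ample.isInvertible_pullback i (RegSheaf.isInvertible_twistOver (n := n) (T := S) 1)) m
  exact ⟨e₂.symm ≪≫ (Scheme.Modules.pullback _).mapIso (e₁.symm ≪≫ (Scheme.Modules.pullback i).mapIso e₀)⟩

theorem nonempty_Om_iT (m : ℤ) :
    Nonempty ((Scheme.Modules.pullback (iT i T)).obj (Twist.twistOver n T.left m) ≅ Om i T m) := by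
  obtain ⟨e⟩ := BCReg.nonempty_pull_twist (n := n) T.hom m
  exact ⟨(Scheme.Modules.pullback (iT i T)).mapIso e.symm ≪≫ cI (iT i T) _ (iT_map i T) _ ≪≫
    (cI (aT i T) i rfl _).symm⟩

theorem hilb_eq (F : (PicF.XT (str i) T).Modules) (t : T.left) (m : ℕ) :
    HilbertFlat.hilb (pX i T) (Om i T 1) F t m =
      HilbertFlat.fibEuler (pX i T) (CohB1.tensorMod F (Om i T m)) t := by
  obtain ⟨e⟩ := nonempty_pow_Om i T m
  exact PnHilbert.fibEuler_congr _ (PicGrp.tensorModIso (Iso.refl _) e) t

variable [IsClosedImmersion i]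

theorem isRelAmple_Om : RelAmple.IsRelAmple (pX i T) (Om i T 1) := by
  have hq : Mor2.IsQuasiAffine i := ⟨inferInstance, fun V hV => by
    haveI : IsAffine (i ⁻¹ᵁ V).toScheme := hV.preimage i
    infer_instance⟩
  have h := H11Ample.isRelAmple_pullback_of_isQuasiAffine hq (H8Props.Ample.isRelAmple_twistOver n S)
  haveI : QuasiCompact (str i) := h.1
  exact H11Ample.isRelAmple_baseChange (str i) T.hom h

instance isProper_pX : IsProper (pX i T) := by
  haveI : IsProper (str i) := by
    haveI := H27Weil.isProper_toBase n S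
    infer_instance
  infer_instance

variable [IsLocallyNoetherian T.left]

instance lfp_pX : LocallyOfFinitePresentation (pX i T) :=
  LocallyOfFinitePresentation.iff_locallyOfFiniteType.2 inferInstance

instance isLocallyNoetherian_XT : IsLocallyNoetherian (PicF.XT (str i) T) :=
  LocallyOfFiniteType.isLocallyNoetherian (pX i T)

/-- A natural-number Hilbert function determines all the twisted Euler characteristics. -/
theorem fibEuler_eq_of_hilb {F : (PicF.XT (str i) T).Modules} (hF : Coh.IsCoh F) (t : T.left) (pol : Polynomial ℚ)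
    (h : ∀ m : ℕ, (HilbertFlat.hilb (pX i T) (Om i T 1) F t m : ℚ) = pol.eval (m : ℚ)) (m : ℤ) :
    (HilbertFlat.fibEuler (pX i T) (CohB1.tensorMod F (Om i T m)) t : ℚ) = pol.eval (m : ℚ) := by
  haveI := CMKer.isProper_pr n T.left
  haveI : IsLocallyNoetherian (KRR.PY n T.left) := LocallyOfFiniteType.isLocallyNoetherian (KRR.pr n T.left)
  let F' := (Coh.push (iT i T)).obj F
  have hF' : Coh.IsCoh F' := H10Coh.isCoh_push_of_isFinite (iT i T) _ hF
  have key : ∀ k : ℤ, PnHilbert.chi (n := n) F' t k = HilbertFlat.fibEuler (pX i T) (CohB1.tensorMod F (Om i T k)) t :=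
    fun k => by
      obtain ⟨e⟩ := nonempty_Om_iT i T k
      show HilbertFlat.fibEuler (KRR.pr n T.left) (CohB1.tensorMod F' (Twist.twistOver n T.left k)) t = _
      rw [fibEuler_push_tensor (iT i T) (KRR.pr n T.left) hF (RegSheaf.isInvertible_twistOver k) t, iT_pr]
      exact PnHilbert.fibEuler_congr _ (PicGrp.tensorModIso (Iso.refl _) e) t
  rw [← key m]
  refine PnHilbert.chi_eq_of_hilb (H10Coh.isFP_of_isCoh _ hF') t pol (fun j => ?_) m
  rw [PnHilbert.hilb_eq_chi, key, ← hilb_eq]
  exact h j

end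

end Groth.Agent.H17.QuotSch
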