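import Groth.Agent.H17.QuotSch.Fib
import Groth.Agent.H17.QuotSch.FieldVan
import Groth.Agent.H17.QuotSch.AcyclicRank
import Groth.Agent.H16Derived.BaseChange.RegFlat
import Groth.Agent.LeadBC.GenBC.Apply
import Groth.Agent.H7Flat.CohDim.H1Apps
import Groth.Agent.H7Flat.CohDim.Top

/-!
# Quotients of `O(c)^p` with bounded kernels on projective space over a base
-/

set_option autoImplicit false
set_option linter.style.haveILetI false

universe u

open CategoryTheory CategoryTheory.Limits AlgebraicGeometry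
open Groth.Agent Groth.Agent.H22Alg
open Groth.Agent.H25Theta (pb pT pC pI tI pO)
attribute [local instance 10000] Groth.Agent.H10Coh.hasSheafifyAb Groth.Agent.H10Coh.hasWeakSheafifyAb Groth.Agent.H10Coh.hasExtAb Groth.Agent.H10Coh.enoughInjAb
attribute [local instance] Groth.Agent.H10Coh.enoughInjMod

namespace Groth.Agent.H17.QuotSch

noncomputable section

variable {n : ℕ} {T : Scheme.{u}} [IsLocallyNoetherian T]

/-- `O(c)^p`. -/
abbrev cFree (n p : ℕ) (c : ℤ) (T : Scheme.{u}) : (KRR.PY n T).Modules :=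
  CohB1.tensorMod (FlatMod.freeMod (KRR.PY n T) p) (Twist.twistOver n T c)

/-- Fibrewise regularity gives regularity. -/
theorem reg_of_fibres {F : (KRR.PY n T).Modules} (hF : Coh.IsCoh F) (hfl : FlatMod.IsFlatOver (KRR.pr n T) F)
    (h : ∀ (t : T) (i : ℕ), 1 ≤ i → ∀ (j : CohB1.ProjSpace n (T.residueField t) ⟶ KRR.PY n T),
      IsPullback j (CohB1.ProjSpace.toSpec n (T.residueField t)) (KRR.pr n T) (T.fromSpecResidueField t) →
      (∀ d : ℤ, Nonempty ((Scheme.Modules.pullback j).obj (Twist.twistOver n T d) ≅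
        Twist.twistProjSpace n (T.residueField t) d)) →
      CMField.Van i (CohB1.tensorMod ((Scheme.Modules.pullback j).obj F)
        (Twist.twistProjSpace n (T.residueField t) (-(i : ℤ))))) :
    KRR.IsRegSheaf n T F := by
  haveI := CMKer.isProper_pr n T
  haveI : LocallyOfFinitePresentation (KRR.pr n T) := LocallyOfFinitePresentation.iff_locallyOfFiniteType.2 inferInstance
  haveI : IsLocallyNoetherian (KRR.PY n T) := LocallyOfFiniteType.isLocallyNoetherian (KRR.pr n T)
  intro i hi
  let G := CohB1.tensorMod F (Twist.twistOver n T (-(i : ℤ)))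
  have hGc : Coh.IsCoh G := H11Ample.isCoh_tensor hF (RegSheaf.isInvertible_twistOver _)
  haveI : G.IsQuasicoherent := hGc.1
  have hGf : FlatMod.IsFlatOver (KRR.pr n T) G :=
    H10Inj.FlatTwist.isFlatOver_tensor (KRR.pr n T) hfl (RegSheaf.isInvertible_twistOver (n := n) (T := T) _)
  have hfp : CohB1.IsFP G := H10Coh.isFP_of_isCoh _ hGc
  refine CMReg.van_iso (H10Coh.Tw.commIso F (Twist.twistOver n T (-(i : ℤ)))) ?_
  have hsub : ∀ t : T, Subsingleton (CohIII.fiberH (KRR.pr n T) G t i) := fun t => by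
    obtain ⟨j, hj, hO⟩ := exists_fibre (n := n) t
    refine subsingleton_fiberH t hj hGc i (CMField.van_iff.1 ?_)
    exact H10Coh.Tw.subsingleton_of_iso ((pT j F _).trans (PicGrp.tensorModIso (Iso.refl _) (hO _).some)).symm
      (h t i hi j hj hO)
  have h' := fun t : T => LeadBC.GenBC.exists_vanishing_nhd (KRR.pr n T) G hfp hGf i (s := t) (hsub t)
  choose W hW hsW _ _ hz _ using h'
  have hzero : IsZero ((Coh.Rpush (KRR.pr n T) i).obj G) := by
    refine H7Flat.CohDim.isZero_of_cover (H10Coh.isQuasicoherent_rpush _ G i) W hW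
      (fun x _ => TopologicalSpace.Opens.mem_iSup.2 ⟨x, hsW x⟩) fun s => ?_
    have h1 : ∀ y : Γ(((Coh.Rpush (KRR.pr n T) i).obj G).restrict (W s).ι, ⊤), y = 0 := fun y =>
      congr($(congrArg (fun φ => Scheme.Modules.Hom.app φ ⊤) ((hz s).eq_of_src (𝟙 _) 0)) y)
    have h2 : ∀ y : Γ((Coh.Rpush (KRR.pr n T) i).obj G, (W s).ι ''ᵁ ⊤), y = 0 := h1
    rw [Scheme.Opens.ι_image_top] at h2
    exact subsingleton_of_forall_eq 0 h2
  obtain ⟨e⟩ := H10Coh.nonempty_toAb_rpush (M := G) (f := KRR.pr n T) i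
  exact ((H10Coh.shF T).map_isZero hzero).of_iso e.symm

theorem nonempty_pullback_cFree {Z : Scheme.{u}} (g : Z ⟶ KRR.PY n T) (p : ℕ) (c : ℤ) :
    Nonempty ((Scheme.Modules.pullback g).obj (cFree n p c T) ≅
      CohB1.tensorMod (FlatMod.freeMod Z p) ((Scheme.Modules.pullback g).obj (Twist.twistOver n T c))) :=
  ⟨pT g _ _ ≪≫ PicGrp.tensorModIso (MumfordStep.pullFreeIso g p) (Iso.refl _)⟩

theorem isCoh_cFree (p : ℕ) (c : ℤ) : Coh.IsCoh (cFree n p c T) := by
  haveI := CMKer.isProper_pr n T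
  haveI : IsLocallyNoetherian (KRR.PY n T) := LocallyOfFiniteType.isLocallyNoetherian (KRR.pr n T)
  exact H11Ample.isCoh_tensor (MumfordQuot.isCoh_free p) (RegSheaf.isInvertible_twistOver _)

theorem isFlatOver_cFree (p : ℕ) (c : ℤ) : FlatMod.IsFlatOver (KRR.pr n T) (cFree n p c T) := by
  haveI := PnVan.flat_pr n T
  refine H10Inj.FlatTwist.isFlatOver_tensor (KRR.pr n T) ?_ (RegSheaf.isInvertible_twistOver (n := n) (T := T) c)
  exact H16Derived.BaseChange.isFlatOver_of_isFlat (KRR.pr n T)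
    (H16Derived.KFlat.Stalk.isFlat_of_isFinLocFree
      (KModel.finLocFree_free (X := KRR.PY n T) p))

theorem reg_cFree (p : ℕ) (c : ℕ) : KRR.IsRegSheaf n T (cFree n p (c : ℤ) T) := by
  refine reg_of_fibres (isCoh_cFree p _) (isFlatOver_cFree p _) fun t i hi j hj hO => ?_
  by_cases hin : i ≤ n
  · obtain ⟨e⟩ := nonempty_pullback_cFree j p (c : ℤ)
    obtain ⟨a⟩ := (CMField.setup (T.residueField t) n).fam.add (c : ℤ) (-(i : ℤ))
    exact H10Coh.Tw.subsingleton_of_iso
      (PicGrp.tensorModIso (e ≪≫ PicGrp.tensorModIso (Iso.refl _) (hO _).some) (Iso.refl _) ≪≫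
        H10Coh.Tw.assoc _ _ _ ≪≫ PicGrp.tensorModIso (Iso.refl _) a).symm
      (CMStep.van_free _ n p hi (by omega) (Iso.refl _))
  · haveI := CMHyper.noetherian (T.residueField t) n
    exact CMField.van_high _ n (by omega) (H11Ample.isCoh_tensor
      (H17.ConsProp.isCoh_pullback j (isCoh_cFree p _)) ((CMField.setup _ n).fam.inv _)).1

variable {p c : ℕ} {f : ℤ → ℤ} {G F : (KRR.PY n T).Modules}

/-- The consequences of the bound for a quotient of `O(c)^p`. -/
theorem quot_facts (hb : IsBound.{u} n p c f) (eG : G ≅ cFree n p (c : ℤ) T) (s : G ⟶ F) [Epi s]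
    (hF : Coh.IsCoh F) (hfl : FlatMod.IsFlatOver (KRR.pr n T) F)
    (hf : ∀ (t : T) (m : ℤ),
      HilbertFlat.fibEuler (KRR.pr n T) (CohB1.tensorMod F (Twist.twistOver n T m)) t = f m) :
    (∀ t : T, (CohIII.fiberRank (KRR.pr n T) F 0 t : ℤ) = f 0) ∧
    (∀ r : ℕ, (r : ℤ) = f 0 → FlatMod.IsFinLocFreeOfRank r ((Scheme.Modules.pushforward (KRR.pr n T)).obj F)) ∧
      Epi ((Scheme.Modules.pushforward (KRR.pr n T)).map s) ∧
      Epi ((Scheme.Modules.pullbackPushforwardAdjunction (KRR.pr n T)).counit.app (kernel s)) ∧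
      Epi ((Scheme.Modules.pullbackPushforwardAdjunction (KRR.pr n T)).counit.app F) := by
  haveI := CMKer.isProper_pr n T
  haveI : IsLocallyNoetherian (KRR.PY n T) := LocallyOfFiniteType.isLocallyNoetherian (KRR.pr n T)
  have hG : Coh.IsCoh G := H10Coh.isCoh_of_iso eG.symm (isCoh_cFree p _)
  have hGf : FlatMod.IsFlatOver (KRR.pr n T) G := fun x =>
    H16Derived.BaseChange.isFlatOverAt_of_iso eG.symm (isFlatOver_cFree p _ x)
  have hGr : KRR.IsRegSheaf n T G := fun i hi => CMReg.van_iso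
    (((DCoh.tensorBi (X := KRR.PY n T)).obj (Twist.twistOver n T (-(i : ℤ)))).mapIso eG.symm) (reg_cFree p c i hi)
  let S : ShortComplex (KRR.PY n T).Modules := ShortComplex.mk (kernel.ι s) s (kernel.condition s)
  have hS : S.ShortExact := MumfordQuot.shortExact_kernel s
  have hK : Coh.IsCoh (kernel s) := H10Coh.isCoh_kernel s hG hF.1
  have hKf : FlatMod.IsFlatOver (KRR.pr n T) (kernel s) := H16Derived.TorTest.isFlatOver_left hS hGf hfl
  have key : ∀ (t : T) (j : CohB1.ProjSpace n (T.residueField t) ⟶ KRR.PY n T),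
      IsPullback j (CohB1.ProjSpace.toSpec n (T.residueField t)) (KRR.pr n T) (T.fromSpecResidueField t) →
      (∀ d : ℤ, Nonempty ((Scheme.Modules.pullback j).obj (Twist.twistOver n T d) ≅
        Twist.twistProjSpace n (T.residueField t) d)) →
      ∀ i : ℕ, 1 ≤ i →
        CMField.Van i (CohB1.tensorMod ((Scheme.Modules.pullback j).obj (kernel s))
          (Twist.twistProjSpace n (T.residueField t) (-(i : ℤ)))) ∧
        CMField.Van i ((Scheme.Modules.pullback j).obj F) := by
    intro t j hj hO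
    obtain ⟨e⟩ := nonempty_pullback_cFree j p (c : ℤ)
    have h' := field_van hb (S := S.map (Scheme.Modules.pullback j))
      (H16Derived.BaseChange.shortExact_pullback_of_flatOver hj hS hfl)
      ((Scheme.Modules.pullback j).mapIso eG ≪≫ e ≪≫ PicGrp.tensorModIso (Iso.refl _) (hO _).some)
      (H17.ConsProp.isCoh_pullback j hF) fun m => by
        rw [← hf t m, fibEuler_eq t hj (H11Ample.isCoh_tensor hF (RegSheaf.isInvertible_twistOver _))]
        exact H25Euler.euler_congr (k := T.residueField t)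
          (pT j F _ ≪≫ PicGrp.tensorModIso (Iso.refl _) (hO m).some).symm
    exact h'
  have hKr : KRR.IsRegSheaf n T (kernel s) :=
    reg_of_fibres hK hKf fun t i hi j hj hO => (key t j hj hO i hi).1
  have hFr : KRR.IsRegSheaf n T F := RegSheaf.reg_right (S := S) hS hGr (CMReg.reg_twist_one (n := n) (T := T) (F := kernel s) hKr)
  have hrank : ∀ t : T, (CohIII.fiberRank (KRR.pr n T) F 0 t : ℤ) = f 0 := by
    intro t
    obtain ⟨j, hj, hO⟩ := exists_fibre (n := n) t
    have hv := fun i (hi : 1 ≤ i) => CMField.van_iff.1 (key t j hj hO i hi).2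
    obtain ⟨e0⟩ := H11Tilde.nonempty_twist_zero_iso (CohB1.polyGrading n (T.residueField t))
    have he : Curv2.euler (T.residueField t) (CohB1.ProjSpace n (T.residueField t))
        ((Scheme.Modules.pullback j).obj F) = f 0 := by
      rw [← hf t 0, fibEuler_eq t hj (H11Ample.isCoh_tensor hF (RegSheaf.isInvertible_twistOver _))]
      exact (H25Euler.euler_congr (k := T.residueField t)
        (pT j F _ ≪≫ PicGrp.tensorModIso (Iso.refl _) ((hO 0).some ≪≫ e0) ≪≫ H10Coh.Tw.commIso _ _ ≪≫
          RegSheaf.leftUnit _)).symm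
    rw [finrank_fiberH t hj hF 0]
    have hsum : Curv2.euler (T.residueField t) (CohB1.ProjSpace n (T.residueField t))
        ((Scheme.Modules.pullback j).obj F) =
        (Module.finrank (T.residueField t) (Coh.HH (CohB1.ProjSpace n (T.residueField t))
          ((Scheme.Modules.pullback j).obj F) 0) : ℤ) := by
      rw [Curv2.euler, finsum_eq_single _ 0]
      · simp
      · intro i hi
        haveI := hv i (Nat.one_le_iff_ne_zero.2 hi)
        rw [Module.finrank_zero_of_subsingleton]
        simp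
    omega
  refine ⟨hrank, fun r hr => finLocFreeOfRank_pushforward (KRR.pr n T) hF hfl (fun i hi => CMReg.van_self hFr hi)
    fun t => by exact_mod_cast (hrank t).trans hr.symm, ?_, CMGen.epi_counit hK.1 hKr, CMGen.epi_counit hF.1 hFr⟩
  haveI : Epi ((H10Coh.shF T).map ((Scheme.Modules.pushforward (KRR.pr n T)).map s)) :=
    ExactVanish.epi_map_g (Coh.pushAb (KRR.pr n T)) (RegSheaf.shortExact_toAb hS) (CMReg.van_self hKr le_rfl)
  exact (H10Coh.shF T).epi_of_epi_map ‹_›

end

end Groth.Agent.H17.QuotSch
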