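import Groth.Agent.H17.QuotSch.RelPull
import Groth.Agent.H22Alg.FlatStratum
import Groth.Agent.H16Derived.GTheory.Localization

/-!
# The locus of the Grassmannian parametrising quotients with given Hilbert function
-/

set_option autoImplicit false
set_option linter.style.haveILetI false
set_option backward.isDefEq.respectTransparency false
set_option backward.isDefEq.respectTransparency.types false

universe u

open CategoryTheory CategoryTheory.Limits AlgebraicGeometry
open Groth.Agent Groth.Agent.H22Alg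
open Groth.Agent.H25Theta (pb pT pC pI tI pO)

namespace Groth.Agent.H17.QuotSch

noncomputable section

variable {n p c : ℕ} {V : Zs.{u}.Modules}
  (o : Vp V Zs.{u} ⟶ (Scheme.Modules.pushforward (KRR.pr n Zs.{u})).obj (G0 n p c))
  {G : Scheme.{u}} {Qg : G.Modules} (qG : Vp V G ⟶ Qg)
  {S X : Scheme.{u}} (i : X ⟶ CohB1.ProjSpaceOver n S) {E : X.Modules}
  (θ : (Scheme.Modules.pullback (h0 i)).obj (G0 n p c) ⟶ E)

/-- The Grassmannian over `S`. -/
def TG (G S : Scheme.{u}) : Over S := Over.mk (pullback.snd (tm G) (tm S))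

/-- Its projection to the Grassmannian. -/
def fG (G S : Scheme.{u}) : (TG G S).left ⟶ G := pullback.fst (tm G) (tm S)

/-- A morphism to `G` as a morphism to the Grassmannian over `S`. -/
def toTG {G : Scheme.{u}} {T : Over S} (h : T.left ⟶ G) : T ⟶ TG G S :=
  Over.homMk (pullback.lift h T.hom (specULiftZIsTerminal.hom_ext _ _)) (pullback.lift_snd _ _ _)

theorem toTG_fG {G : Scheme.{u}} {T : Over S} (h : T.left ⟶ G) : (toTG h).left ≫ fG G S = h :=
  pullback.lift_fst _ _ _

theorem hom_TG_ext {G : Scheme.{u}} {T : Over S} {g g' : T ⟶ TG G S} (h : g.left ≫ fG G S = g'.left ≫ fG G S) :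
    g = g' :=
  Over.OverMorphism.ext (pullback.hom_ext h ((Over.w g).trans (Over.w g').symm))

variable [IsClosedImmersion i] [IsLocallyNoetherian S] [Epi o] [Epi θ] {f : ℤ → ℤ} {r : ℕ}
  (hG : Grass.IsGrass (tm G) V r Qg qG) (hb : IsBound.{u} n p c f) (hr : (r : ℤ) = f 0) (pol : Polynomial ℚ)
  (hpol : ∀ m : ℤ, (f m : ℚ) = pol.eval (m : ℚ))
  {FG : (PicF.XT (str i) (TG G S)).Modules} (πG : FGA.ET (str i) E (TG G S) ⟶ FG) [Epi πG]
  (hrel : Rel o qG i θ (TG G S) πG (fG G S))

include hG hb hr hpol hrel in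
/-- Flat quotients with the given Hilbert function are classified by the Grassmannian. -/
theorem classify (T : Over S) [IsLocallyNoetherian T.left] {F : (PicF.XT (str i) T).Modules}
    (π : FGA.ET (str i) E T ⟶ F) [Epi π] (hF : Coh.IsCoh F) (hfl : FlatMod.IsFlatOver (pX i T) F)
    (hh : ∀ t : T.left, HilbertFlat.hilb (pX i T) (Om i T 1) F t = fun m : ℕ => f m) :
    ∃! g : T ⟶ TG G S, FGA.quotPull (str i) E g (kernelSubobject πG) = kernelSubobject π := by
  have hf : ∀ (t : T.left) (m : ℤ),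
      HilbertFlat.fibEuler (pX i T) (CohB1.tensorMod F (Om i T m)) t = f m := fun t m => by
    have h := fibEuler_eq_of_hilb i T hF t pol (fun j => by rw [congrFun (hh t) j]; exact_mod_cast hpol j) m
    exact Int.cast_injective (α := ℚ) (h.trans (hpol m).symm)
  obtain ⟨h, hh', hu⟩ := existsUnique_point o qG i θ T hG hb hr π hF hfl hf
  refine ⟨toTG h, ?_, fun g hg => hom_TG_ext ?_⟩
  · have h1 := hrel.pull (toTG h)
    rw [toTG_fG] at h1
    exact (H24Quot.quotPull_eq (str i) E (toTG h) πG _ rfl).trans (h1.kernel_eq hh')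
  · rw [toTG_fG]
    haveI := H24Quot.epi_pullQ (str i) E g πG
    exact hu _ ((hrel.pull g).congr (by rw [← H24Quot.quotPull_eq (str i) E g πG _ rfl]; exact hg))

variable [IsLocallyNoetherian (TG G S).left]

omit [Epi θ] [Epi o] [IsLocallyNoetherian S] in
/-- The condition of the stratum on a point of the Grassmannian. -/
theorem cond_iff (hFG : Coh.IsCoh FG) (P : ℕ → ℤ) {T : Over S} (g : T ⟶ TG G S) :
    HilbertFlat.Cond (pX i (TG G S)) (Om i (TG G S) 1) FG P g.left ↔
      FlatMod.IsFlatOver (pX i T) ((Scheme.Modules.pullback (PicF.XTmap (str i) g)).obj FG) ∧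
        ∀ t : T.left, HilbertFlat.hilb (pX i T) (Om i T 1)
          ((Scheme.Modules.pullback (PicF.XTmap (str i) g)).obj FG) t = P := by
  have sq := isPullback_XTmap' (i := i) g
  have hh : ∀ t : T.left, HilbertFlat.hilb (pX i T) (Om i T 1)
      ((Scheme.Modules.pullback (PicF.XTmap (str i) g)).obj FG) t =
      HilbertFlat.hilb (pX i (TG G S)) (Om i (TG G S) 1) FG (g.left t) := fun t => by
    rw [← HilbertFlat.hilb_baseChange sq (isInvertible_Om i _ 1) (H10Coh.isFP_of_isCoh _ hFG) t]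
    exact HilbertFlat.hilb_congr _
      (cI (PicF.XTmap (str i) g) (aT i (TG G S)) (FGA.XTmap_fst (str i) g) _).symm (Iso.refl _) t
  constructor
  · exact fun h => ⟨(HilbertFlat.isFlatOver_iff_of_square sq FG).2 h.1, fun t => (hh t).trans (h.2 t)⟩
  · exact fun h => ⟨(HilbertFlat.isFlatOver_iff_of_square sq FG).1 h.1, fun t => (hh t).symm.trans (h.2 t)⟩

omit [IsLocallyNoetherian (TG G S).left] [Epi o] [Epi θ] [Epi πG] in
theorem isCoh_quot (hE : Coh.IsCoh E) (T : Over S) [IsLocallyNoetherian T.left]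
    {F : (PicF.XT (str i) T).Modules} (π : FGA.ET (str i) E T ⟶ F) [Epi π] (hq : Coh.IsQCoh F) : Coh.IsCoh F := by
  have h := H17.ConsProp.isCoh_pullback (aT i T) hE
  haveI : (FGA.ET (str i) E T).IsQuasicoherent := h.1
  haveI : F.IsQuasicoherent := hq
  exact H10Coh.isCoh_of_iso
    ((cokernelIsCokernel (kernel.ι π)).coconePointUniqueUpToIso (Abelian.epiIsCokernelOfKernel (KernelFork.ofι (kernel.ι π) (kernel.condition π)) (kernelIsKernel π)))
    (H10Coh.isCoh_cokernel (kernel.ι π) (H10Coh.isQuasicoherent_kernel π) h)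

include hG hb hr hpol hrel in
/-- The locus, with its universal quotient. -/
theorem exists_piece (hFG : Coh.IsCoh FG) :
    ∃ (Q : Over S) (ι : Q ⟶ TG G S) (K : FGA.QuotSet (str i) E Q),
      IsImmersion ι.left ∧ QuasiCompact ι.left ∧ IsLocallyNoetherian Q.left ∧
      Set.range ι.left = {s | HilbertFlat.hilb (pX i (TG G S)) (Om i (TG G S) 1) FG s = fun m : ℕ => f m} ∧
      (∀ t : Q.left, HilbertFlat.hilb (pX i Q) (Om i Q 1) (cokernel K.1.arrow) t = fun m : ℕ => f m) ∧
      ∀ (T : Over S) [IsLocallyNoetherian T.left] (K' : FGA.QuotSet (str i) E T),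
        (∀ t : T.left, HilbertFlat.hilb (pX i T) (Om i T 1) (cokernel K'.1.arrow) t = fun m : ℕ => f m) →
        ∃! g : T ⟶ Q, FGA.quotPull (str i) E g K.1 = K'.1 := by
  obtain ⟨W, w, hw, hwq, hwf, hrange, hfac⟩ := HilbertFlat.exists_stratum_scheme (pX i (TG G S))
    (isRelAmple_Om i (TG G S)) (H10Coh.isFP_of_isCoh _ hFG) (fun m : ℕ => f m) ⟨pol, fun m => by exact_mod_cast hpol m⟩
  let Q : Over S := Over.mk (w ≫ (TG G S).hom)
  let ι : Q ⟶ TG G S := Over.homMk w rfl
  haveI := hw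
  haveI := hwf
  haveI : IsLocallyNoetherian Q.left :=
    show IsLocallyNoetherian W from LocallyOfFiniteType.isLocallyNoetherian w
  haveI := H24Quot.epi_pullQ (str i) E ι πG
  have hK : FGA.quotPull (str i) E ι (kernelSubobject πG) = kernelSubobject (H24Quot.pullQ (str i) E ι πG) :=
    H24Quot.quotPull_eq (str i) E ι πG _ rfl
  obtain ⟨e⟩ := H24Quot.nonempty_cokernel_iso (H24Quot.pullQ (str i) E ι πG) _ hK
  obtain ⟨hfl, hhilb⟩ := (cond_iff i hFG (fun m : ℕ => f m) ι).1 ((hfac W w).1 ⟨𝟙 W, Category.id_comp w⟩)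
  let K : FGA.QuotSet (str i) E Q := ⟨FGA.quotPull (str i) E ι (kernelSubobject πG),
    H10Coh.isCoh_of_iso e (H17.ConsProp.isCoh_pullback _ hFG), H24Quot.isFlatOver_congr _ e hfl⟩
  refine ⟨Q, ι, K, hw, hwq, inferInstance, hrange,
    fun t => (HilbertFlat.hilb_congr _ (Iso.refl _) e.symm t).trans (hhilb t), fun T _ K' hK' => ?_⟩
  have hk := (H24Quot.kernelSubobject_cokernel_π K'.1)
  obtain ⟨g, hg, hu⟩ := classify o qG i θ hG hb hr pol hpol πG hrel T (cokernel.π K'.1.arrow) K'.2.1 K'.2.2 hK'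
  rw [hk] at hg
  have hgc : HilbertFlat.Cond (pX i (TG G S)) (Om i (TG G S) 1) FG (fun m : ℕ => f m) g.left := by
    haveI := H24Quot.epi_pullQ (str i) E g πG
    obtain ⟨e'⟩ := H24Quot.nonempty_cokernel_iso (H24Quot.pullQ (str i) E g πG) K'.1
      (hg.symm.trans (H24Quot.quotPull_eq (str i) E g πG _ rfl))
    exact (cond_iff i hFG _ g).2 ⟨H24Quot.isFlatOver_congr _ e'.symm K'.2.2,
      fun t => (HilbertFlat.hilb_congr _ (Iso.refl _) e' t).trans (hK' t)⟩
  obtain ⟨u, hu'⟩ := (hfac T.left g.left).2 hgc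
  let v : T ⟶ Q := Over.homMk u (by
    show u ≫ w ≫ (TG G S).hom = T.hom
    rw [← Category.assoc, hu']; exact Over.w g)
  have hv : v ≫ ι = g := Over.OverMorphism.ext hu'
  refine ⟨v, ?_, fun v' hv' => ?_⟩
  · show FGA.quotPull (str i) E v (FGA.quotPull (str i) E ι (kernelSubobject πG)) = K'.1
    rw [H24Quot.quotPull_comp, hv, hg]
  · have h' : v' ≫ ι = g := hu _ (by
      show FGA.quotPull (str i) E (v' ≫ ι) _ = _
      rw [← H24Quot.quotPull_comp, hk]
      exact hv')
    refine Over.OverMorphism.ext ((cancel_mono w).1 ?_)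
    exact (congrArg (fun z : T ⟶ TG G S => z.left) (h'.trans hv.symm))

end

end Groth.Agent.H17.QuotSch
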