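import Groth.Agent.H22Alg.HilbertFlat
import Groth.Agent.H8Props.ClosedBaseChange
import Groth.Agent.H28Int.Push
import Groth.Agent.H10Coh.SerreVanishing

/-!
# Euler characteristics on fibres of direct images along closed immersions
-/

set_option autoImplicit false
set_option linter.style.haveILetI false

universe u

open CategoryTheory CategoryTheory.Limits AlgebraicGeometry
open Groth.Agent Groth.Agent.H22Alg
attribute [local instance 10000] Groth.Agent.H10Coh.hasSheafifyAb Groth.Agent.H10Coh.hasWeakSheafifyAb Groth.Agent.H10Coh.hasExtAb Groth.Agent.H10Coh.enoughInjAb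

namespace Groth.Agent.H17.QuotSch

noncomputable section

variable {X Y T : Scheme.{u}} (j : X ⟶ Y) [IsClosedImmersion j] (g : Y ⟶ T)

theorem fibEuler_push {G : X.Modules} (hG : Coh.IsCoh G) (t : T) :
    HilbertFlat.fibEuler g ((Coh.push j).obj G) t = HilbertFlat.fibEuler (j ≫ g) G t := by
  let K := T.residueField t
  letI : (g.fiber t).Over (Spec (CommRingCat.of K)) := ⟨g.fiberToSpecResidueField t⟩
  letI : ((j ≫ g).fiber t).Over (Spec (CommRingCat.of K)) := ⟨(j ≫ g).fiberToSpecResidueField t⟩
  have hc : ((j ≫ g).fiberι t ≫ j) ≫ g = (j ≫ g).fiberToSpecResidueField t ≫ T.fromSpecResidueField t := by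
    rw [Category.assoc]; exact (j ≫ g).fiber_fac t
  let jt : (j ≫ g).fiber t ⟶ g.fiber t :=
    pullback.lift ((j ≫ g).fiberι t ≫ j) ((j ≫ g).fiberToSpecResidueField t) hc
  have h1 : jt ≫ g.fiberι t = (j ≫ g).fiberι t ≫ j := pullback.lift_fst _ _ _
  have h2 : jt ≫ g.fiberToSpecResidueField t = (j ≫ g).fiberToSpecResidueField t := pullback.lift_snd _ _ _
  have H : IsPullback ((j ≫ g).fiberι t) jt j (g.fiberι t) := by
    refine IsPullback.of_bot ?_ h1.symm (IsPullback.of_hasPullback g (T.fromSpecResidueField t))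
    rw [show jt ≫ pullback.snd g (T.fromSpecResidueField t) = (j ≫ g).fiberToSpecResidueField t from h2]
    exact IsPullback.of_hasPullback (j ≫ g) (T.fromSpecResidueField t)
  haveI : IsClosedImmersion jt := MorphismProperty.of_isPullback H inferInstance
  haveI : ((Scheme.Modules.pullback ((j ≫ g).fiberι t)).obj G).IsQuasicoherent :=
    (H17.ConsProp.isCoh_pullback _ hG).1
  refine (H25Euler.euler_congr ((H8Props.ClosedBC.baseChangeIso H).app G)).trans ?_
  exact H28Int.Push.euler_push K jt h2 _

theorem fibEuler_push_tensor [IsLocallyNoetherian X] {G : X.Modules} (hG : Coh.IsCoh G) {N : Y.Modules}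
    (hN : PicF.IsInvertible N) (t : T) :
    HilbertFlat.fibEuler g (CohB1.tensorMod ((Coh.push j).obj G) N) t =
      HilbertFlat.fibEuler (j ≫ g) (CohB1.tensorMod G ((Scheme.Modules.pullback j).obj N)) t := by
  obtain ⟨e⟩ := H10Coh.Tw.nonempty_push_tensor_iso j G hN
  rw [← fibEuler_push j g (H11Ample.isCoh_tensor hG (H11Ample.isInvertible_pullback j hN)) t]
  letI : (g.fiber t).Over (Spec (CommRingCat.of (T.residueField t))) := ⟨g.fiberToSpecResidueField t⟩
  exact H25Euler.euler_congr ((Scheme.Modules.pullback _).mapIso e)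

end

end Groth.Agent.H17.QuotSch
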