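import Groth.Agent.H17.QuotSch.Univ
import Groth.Agent.H17.QuotSch.PushEuler
import Groth.Agent.H24Hilb.ClosedCounit
import Groth.Agent.H16Derived.TorTest.RelFlatRel
import Groth.Agent.H22Alg.MumfordQuot
import Groth.Agent.H28RR.AnyField

/-!
# Points of the Grassmannian attached to bounded flat quotients
-/

set_option autoImplicit false
set_option linter.style.haveILetI false
set_option backward.isDefEq.respectTransparency false
set_option backward.isDefEq.respectTransparency.types false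

universe u

open CategoryTheory CategoryTheory.Limits AlgebraicGeometry
open Groth.Agent Groth.Agent.H22Alg
attribute [local instance 10000] Groth.Agent.H10Coh.hasSheafifyAb Groth.Agent.H10Coh.hasWeakSheafifyAb Groth.Agent.H10Coh.hasExtAb Groth.Agent.H10Coh.enoughInjAb

namespace Groth.Agent.H17.QuotSch

noncomputable section

variable {n p c : ℕ} {V : Zs.{u}.Modules}
  (o : Vp V Zs.{u} ⟶ (Scheme.Modules.pushforward (KRR.pr n Zs.{u})).obj (G0 n p c))
  {G : Scheme.{u}} {Qg : G.Modules} (qG : Vp V G ⟶ Qg)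
  {S X : Scheme.{u}} (i : X ⟶ CohB1.ProjSpaceOver n S) {E : X.Modules}

/-- The structure morphism. -/
abbrev str : X ⟶ S := i ≫ CohB1.ProjSpaceOver.toBase n S

/-- `X ⟶ P^n_ℤ`. -/
abbrev h0 : X ⟶ KRR.PY n Zs.{u} := i ≫ ψT S n

variable (θ : (Scheme.Modules.pullback (h0 i)).obj (G0 n p c) ⟶ E)

/-- The evaluation on `X`. -/
def evX : Vp V X ⟶ E := bc (h0 i) (q0 o) ≫ θ

variable (T : Over S)

/-- The first projection of `X_T`. -/
abbrev aT : PicF.XT (str i) T ⟶ X := pullback.fst (str i) T.hom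

/-- The second projection of `X_T`. -/
abbrev pX : PicF.XT (str i) T ⟶ T.left := pullback.snd (str i) T.hom

/-- The evaluation on `X_T`. -/
def evT : Vp V (PicF.XT (str i) T) ⟶ FGA.ET (str i) E T := bc (aT i T) (evX o i θ)

/-- `X_T ⟶ P^n_T`. -/
def iT : PicF.XT (str i) T ⟶ KRR.PY n T.left :=
  pullback.lift (aT i T ≫ i ≫ CMReg.fstP n S) (pX i T) (specULiftZIsTerminal.hom_ext _ _)

theorem iT_pr : iT i T ≫ KRR.pr n T.left = pX i T := pullback.lift_snd _ _ _

theorem iT_fst : iT i T ≫ CMReg.fstP n T.left = aT i T ≫ i ≫ CMReg.fstP n S := pullback.lift_fst _ _ _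

theorem iT_map : iT i T ≫ KRR.projSpaceMap n T.hom = aT i T ≫ i := by
  apply pullback.hom_ext
  · show (iT i T ≫ KRR.projSpaceMap n T.hom) ≫ CMReg.fstP n S = (aT i T ≫ i) ≫ CMReg.fstP n S
    rw [Category.assoc, BCReg.map_fst, iT_fst, Category.assoc]
  · show (iT i T ≫ KRR.projSpaceMap n T.hom) ≫ KRR.pr n S = (aT i T ≫ i) ≫ KRR.pr n S
    rw [Category.assoc, (KBaseChangeCl.isPullback_map T.hom).w, ← Category.assoc, iT_pr, Category.assoc]
    exact pullback.condition.symm

theorem iT_ψT : iT i T ≫ ψT T.left n = aT i T ≫ h0 i := by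
  apply pullback.hom_ext
  · show (iT i T ≫ ψT T.left n) ≫ CMReg.fstP n Zs.{u} = (aT i T ≫ h0 i) ≫ CMReg.fstP n Zs.{u}
    simp only [h0, Category.assoc, BCReg.map_fst, iT_fst]
  · exact specULiftZIsTerminal.hom_ext _ _

theorem isPullback_iT : IsPullback (iT i T) (aT i T) (KRR.projSpaceMap n T.hom) i := by
  refine IsPullback.of_right ?_ (iT_map i T) (KBaseChangeCl.isPullback_map T.hom).flip
  rw [iT_pr]
  exact (IsPullback.of_hasPullback (str i) T.hom).flip

instance isClosedImmersion_iT [IsClosedImmersion i] : IsClosedImmersion (iT i T) :=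
  MorphismProperty.of_isPullback (isPullback_iT i T).flip inferInstance

/-- The quotient map on `X_T`. -/
def θT : (Scheme.Modules.pullback (iT i T)).obj ((Scheme.Modules.pullback (ψT T.left n)).obj (G0 n p c)) ⟶
    FGA.ET (str i) E T :=
  (cI (iT i T) (ψT T.left n) (iT_ψT i T) _).hom ≫ (cI (aT i T) (h0 i) rfl _).inv ≫
    (Scheme.Modules.pullback (aT i T)).map θ

theorem epi_θT [Epi θ] : Epi (θT i θ T) := by
  haveI := H26Gr.epi_quotBC (π := h0 i) (h := aT i T) rfl θ
  haveI : Epi ((Scheme.Modules.pullback (aT i T)).map θ) := by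
    haveI : (Scheme.Modules.pullback (aT i T)).PreservesEpimorphisms :=
      Functor.preservesEpimorphisms_of_adjunction (Scheme.Modules.pullbackPushforwardAdjunction (aT i T))
    infer_instance
  exact epi_comp' inferInstance (epi_comp' inferInstance inferInstance)

theorem evT_eq : evT o i θ T = bc (iT i T) (u0 o T.left) ≫ θT i θ T := by
  have h1 := bc_bc (iT i T) (ψT T.left n) (iT_ψT i T) (q0 o)
  have h2 := bc_bc (aT i T) (h0 i) rfl (q0 o)
  rw [θT, u0, ← Category.assoc (bc (iT i T) _), h1, ← h2, Category.assoc, Iso.hom_inv_id_assoc, evT, evX, bc_map]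

/-- `h` classifies the quotient `π` of `E_T`. -/
def Rel {F : (PicF.XT (str i) T).Modules} (π : FGA.ET (str i) E T ⟶ F) (h : T.left ⟶ G) : Prop :=
  ∃ ψ, IsPushout (evT o i θ T) (bc (pX i T ≫ h) qG) π ψ

variable [IsClosedImmersion i] [IsLocallyNoetherian S] [IsLocallyNoetherian T.left] [Epi o] [Epi θ] {f : ℤ → ℤ}
  {r : ℕ}

/-- A bounded flat quotient with Hilbert function `f` has exactly one classifying point. -/
theorem existsUnique_point (hG : Grass.IsGrass (tm G) V r Qg qG) (hb : IsBound.{u} n p c f) (hr : (r : ℤ) = f 0)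
    {F : (PicF.XT (str i) T).Modules} (π : FGA.ET (str i) E T ⟶ F) [Epi π] (hF : Coh.IsCoh F)
    (hfl : FlatMod.IsFlatOver (pX i T) F)
    (hf : ∀ (t : T.left) (m : ℤ), HilbertFlat.fibEuler (pX i T)
      (CohB1.tensorMod F ((Scheme.Modules.pullback (aT i T)).obj
        ((Scheme.Modules.pullback i).obj (Twist.twistOver n S m)))) t = f m) :
    ∃! h : T.left ⟶ G, Rel o qG i θ T π h := by
  haveI := hG.epi
  haveI := CMKer.isProper_pr n T.left
  haveI : IsLocallyNoetherian (KRR.PY n T.left) := LocallyOfFiniteType.isLocallyNoetherian (KRR.pr n T.left)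
  haveI : IsLocallyNoetherian (PicF.XT (str i) T) := LocallyOfFiniteType.isLocallyNoetherian (iT i T)
  haveI := epi_θT i θ T
  let adj := Scheme.Modules.pullbackPushforwardAdjunction (iT i T)
  let F' : (KRR.PY n T.left).Modules := (Scheme.Modules.pushforward (iT i T)).obj F
  let s : (Scheme.Modules.pullback (ψT T.left n)).obj (G0 n p c) ⟶ F' := adj.homEquiv _ _ (θT i θ T ≫ π)
  have hs : s = adj.unit.app _ ≫ (Scheme.Modules.pushforward (iT i T)).map (θT i θ T ≫ π) := adj.homEquiv_unit _ _ _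
  haveI : Epi s := by
    rw [hs]
    exact epi_comp' (MumfordQuot.epi_unit (iT i T) _)
      (LeadProper.epi_push_map_of_isClosedImmersion (iT i T) (θT i θ T ≫ π))
  have hF' : Coh.IsCoh F' := H10Coh.isCoh_push_of_isFinite (iT i T) _ hF
  have hfl' : FlatMod.IsFlatOver (KRR.pr n T.left) F' :=
    H16Derived.TorTest.isFlatOver_push (iT i T) (KRR.pr n T.left) (by rw [iT_pr]; exact hfl)
  have hf' : ∀ (t : T.left) (m : ℤ),
      HilbertFlat.fibEuler (KRR.pr n T.left) (CohB1.tensorMod F' (Twist.twistOver n T.left m)) t = f m := by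
    intro t m
    obtain ⟨e⟩ := BCReg.nonempty_pull_twist (n := n) T.hom m
    rw [fibEuler_push_tensor (iT i T) (KRR.pr n T.left) hF (RegSheaf.isInvertible_twistOver m) t, iT_pr]
    refine Eq.trans ?_ (hf t m)
    letI : ((pX i T).fiber t).Over (Spec (CommRingCat.of (T.left.residueField t))) :=
      ⟨(pX i T).fiberToSpecResidueField t⟩
    exact H25Euler.euler_congr ((Scheme.Modules.pullback _).mapIso (PicGrp.tensorModIso (Iso.refl F)
      ((Scheme.Modules.pullback (iT i T)).mapIso e.symm ≪≫ cI (iT i T) _ (iT_map i T) _ ≪≫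
        (cI (aT i T) i rfl _).symm)))
  obtain ⟨hrk, hea, hpo⟩ := py_main o hb s hF' hfl' hf' r hr
  haveI := hea
  let a := adjB (u0 o T.left ≫ s)
  haveI := isIso_bc (iT i T) (𝟙 (Vp V (KRR.PY n T.left)))
  let ι := bc (iT i T) (𝟙 (Vp V (KRR.PY n T.left)))
  have hι : ∀ {N : (KRR.PY n T.left).Modules} (v : Vp V (KRR.PY n T.left) ⟶ N),
      bc (iT i T) v = ι ≫ (Scheme.Modules.pullback (iT i T)).map v := fun v => bc_eq _ v
  obtain ⟨h, ⟨hh, e, he⟩, hu⟩ := hG.univ T.left (tm T.left) _ hrk a inferInstance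
  have he' : bc h qG ≫ e.hom = a := he
  refine ⟨h, ?_, fun h' hrel => ?_⟩
  · have hw : (Scheme.Modules.pullback (iT i T)).map s ≫ adj.counit.app F = θT i θ T ≫ π := by
      exact ((adj.homEquiv_counit _ _ s).symm).trans (Equiv.symm_apply_apply _ _)
    haveI := H24Hilb.Closed.isIso_counit_of_isClosedImmersion (iT i T) F
    haveI : IsIso (adj.counit.app F) := this
    have hsq := (isPushout_pullback (iT i T) hpo)
    have hι' : IsPushout (bc (iT i T) (u0 o T.left)) (bc (iT i T) (bc (KRR.pr n T.left) a))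
        ((Scheme.Modules.pullback (iT i T)).map s)
        ((Scheme.Modules.pullback (iT i T)).map
          ((Scheme.Modules.pullbackPushforwardAdjunction (KRR.pr n T.left)).counit.app F')) :=
      hsq.of_iso (asIso ι).symm (Iso.refl _) (Iso.refl _) (Iso.refl _) (by simp [hι, a])
        (by simp [hι, a]) (by simp) (by simp)
    have hall := hι'.paste_horiz (isPushout_of_epi_isIso (y := adj.counit.app F) hw.symm)
    rw [← evT_eq] at hall
    have hb1 := bc_bc (iT i T) (KRR.pr n T.left) (iT_pr i T) (bc h qG)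
    have hb2 := bc_bc (pX i T) h rfl qG
    let w := (cI (iT i T) (KRR.pr n T.left) (iT_pr i T) ((Scheme.Modules.pullback h).obj Qg)) ≪≫
      cI (pX i T) h rfl Qg
    let w' := (Scheme.Modules.pullback (iT i T)).mapIso ((Scheme.Modules.pullback (KRR.pr n T.left)).mapIso e)
    have hw2 : bc (iT i T) (bc (KRR.pr n T.left) a) ≫ w'.inv ≫ w.hom = bc (pX i T ≫ h) qG := by
      rw [← he', bc_map, bc_map, Category.assoc]
      show _ ≫ w'.hom ≫ w'.inv ≫ w.hom = _
      rw [Iso.hom_inv_id_assoc]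
      show _ ≫ (cI _ _ _ _).hom ≫ (cI _ _ _ _).hom = _
      rw [← Category.assoc, hb1, hb2]
    exact ⟨_, hall.of_iso (Iso.refl _) (Iso.refl _) (w'.symm ≪≫ w) (Iso.refl _) (by simp)
      (by simpa using hw2) (by simp) (Category.comp_id _ |>.trans (Iso.hom_inv_id_assoc (w'.symm ≪≫ w) _).symm)⟩
  · obtain ⟨ψX, hψ⟩ := hrel
    have hb1 := bc_bc (iT i T) (KRR.pr n T.left) (iT_pr i T) (bc h' qG)
    have hb2 := bc_bc (pX i T) h' rfl qG
    let ψY := (cI (iT i T) (KRR.pr n T.left) (iT_pr i T) _).hom ≫ (cI (pX i T) h' rfl Qg).hom ≫ ψX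
    have hY : (Scheme.Modules.pullback (iT i T)).map (u0 o T.left) ≫ θT i θ T ≫ π =
        (Scheme.Modules.pullback (iT i T)).map (bc (KRR.pr n T.left) (bc h' qG)) ≫ ψY := by
      rw [← cancel_epi ι, ← Category.assoc, ← hι, ← Category.assoc, ← evT_eq, hψ.w, ← Category.assoc ι, ← hι,
        ← Category.assoc (bc (iT i T) _), hb1, ← Category.assoc, hb2]
    have hY' : u0 o T.left ≫ s = bc (KRR.pr n T.left) (bc h' qG) ≫ adj.homEquiv _ _ ψY := by
      rw [← adj.homEquiv_naturality_left, ← adj.homEquiv_naturality_left, hY]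
    have hβ : a = bc h' qG ≫
        (Scheme.Modules.pullbackPushforwardAdjunction (KRR.pr n T.left)).homEquiv _ _ (adj.homEquiv _ _ ψY) := by
      rw [show a = adjB (u0 o T.left ≫ s) from rfl, hY', adjB_bc]
    let β := (Scheme.Modules.pullbackPushforwardAdjunction (KRR.pr n T.left)).homEquiv _ _ (adj.homEquiv _ _ ψY)
    haveI : Epi β := by
      haveI : Epi (bc h' qG ≫ β) := hβ ▸ hea
      exact epi_of_epi (bc h' qG) β
    haveI := H28RR.AnyField.isIso_of_epi_rank (H26Gr.isFinLocFreeOfRank_pullback h' hG.rank) hrk β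
    exact hu h' ⟨specULiftZIsTerminal.hom_ext _ _, asIso β, hβ.symm⟩

omit [Epi o] in
include θ in
/-- The value at zero of the Hilbert function of a bounded quotient is not negative. -/
theorem nonneg_of_quot (hb : IsBound.{u} n p c f)
    {F : (PicF.XT (str i) T).Modules} (π : FGA.ET (str i) E T ⟶ F) [Epi π] (hF : Coh.IsCoh F)
    (hfl : FlatMod.IsFlatOver (pX i T) F)
    (hf : ∀ (t : T.left) (m : ℤ), HilbertFlat.fibEuler (pX i T)
      (CohB1.tensorMod F ((Scheme.Modules.pullback (aT i T)).obj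
        ((Scheme.Modules.pullback i).obj (Twist.twistOver n S m)))) t = f m) (t : T.left) : 0 ≤ f 0 := by
  haveI := CMKer.isProper_pr n T.left
  haveI : IsLocallyNoetherian (KRR.PY n T.left) := LocallyOfFiniteType.isLocallyNoetherian (KRR.pr n T.left)
  haveI : IsLocallyNoetherian (PicF.XT (str i) T) := LocallyOfFiniteType.isLocallyNoetherian (iT i T)
  haveI := epi_θT i θ T
  let adj := Scheme.Modules.pullbackPushforwardAdjunction (iT i T)
  let F' : (KRR.PY n T.left).Modules := (Scheme.Modules.pushforward (iT i T)).obj F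
  let s : (Scheme.Modules.pullback (ψT T.left n)).obj (G0 n p c) ⟶ F' := adj.homEquiv _ _ (θT i θ T ≫ π)
  have hs : s = adj.unit.app _ ≫ (Scheme.Modules.pushforward (iT i T)).map (θT i θ T ≫ π) := adj.homEquiv_unit _ _ _
  haveI : Epi s := by
    rw [hs]
    exact epi_comp' (MumfordQuot.epi_unit (iT i T) _)
      (LeadProper.epi_push_map_of_isClosedImmersion (iT i T) (θT i θ T ≫ π))
  have hF' : Coh.IsCoh F' := H10Coh.isCoh_push_of_isFinite (iT i T) _ hF
  have hfl' : FlatMod.IsFlatOver (KRR.pr n T.left) F' :=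
    H16Derived.TorTest.isFlatOver_push (iT i T) (KRR.pr n T.left) (by rw [iT_pr]; exact hfl)
  have hf' : ∀ (t : T.left) (m : ℤ),
      HilbertFlat.fibEuler (KRR.pr n T.left) (CohB1.tensorMod F' (Twist.twistOver n T.left m)) t = f m := by
    intro t m
    obtain ⟨e⟩ := BCReg.nonempty_pull_twist (n := n) T.hom m
    rw [fibEuler_push_tensor (iT i T) (KRR.pr n T.left) hF (RegSheaf.isInvertible_twistOver m) t, iT_pr]
    refine Eq.trans ?_ (hf t m)
    letI : ((pX i T).fiber t).Over (Spec (CommRingCat.of (T.left.residueField t))) :=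
      ⟨(pX i T).fiberToSpecResidueField t⟩
    exact H25Euler.euler_congr ((Scheme.Modules.pullback _).mapIso (PicGrp.tensorModIso (Iso.refl F)
      ((Scheme.Modules.pullback (iT i T)).mapIso e.symm ≪≫ cI (iT i T) _ (iT_map i T) _ ≪≫
        (cI (aT i T) i rfl _).symm)))
  obtain ⟨eG⟩ := nonempty_pull_G0 (n := n) (p := p) (c := c) (T := T.left)
  rw [← (quot_facts hb eG s hF' hfl' hf').1 t]
  exact Int.natCast_nonneg _

end

end Groth.Agent.H17.QuotSch
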