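import Groth.Agent.H26Gr.QuotBC
import Groth.Agent.H24Quot.QuotPull
import Mathlib.CategoryTheory.Abelian.Refinements

/-!
# Pullbacks of maps out of a module on the terminal scheme; pushout squares of epimorphisms
-/

set_option autoImplicit false
set_option backward.isDefEq.respectTransparency false
set_option backward.isDefEq.respectTransparency.types false

universe u

open CategoryTheory CategoryTheory.Limits AlgebraicGeometry Grass
open Groth.Agent

namespace Groth.Agent.H17.QuotSch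

noncomputable section

/-- The base point `Spec ℤ`. -/
abbrev Zs : Scheme.{u} := Spec (CommRingCat.of (ULift.{u} ℤ))

/-- The morphism to `Spec ℤ`. -/
abbrev tm (Y : Scheme.{u}) : Y ⟶ Zs.{u} := specULiftZIsTerminal.from Y

variable (V : Zs.{u}.Modules)

/-- The pullback of `V` to `Y`. -/
abbrev Vp (Y : Scheme.{u}) : Y.Modules := (Scheme.Modules.pullback (tm Y)).obj V

variable {V} {Y Y' Y'' : Scheme.{u}}

/-- Base change of a map out of the pullback of `V`. -/
def bc (a : Y' ⟶ Y) {N : Y.Modules} (u : Vp V Y ⟶ N) : Vp V Y' ⟶ (Scheme.Modules.pullback a).obj N :=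
  quotBC (specULiftZIsTerminal.hom_ext (a ≫ tm Y) (tm Y')) u

/-- The composition isomorphism. -/
def cI (a : Y'' ⟶ Y') (b : Y' ⟶ Y) {c : Y'' ⟶ Y} (h : a ≫ b = c) (N : Y.Modules) :
    (Scheme.Modules.pullback a).obj ((Scheme.Modules.pullback b).obj N) ≅ (Scheme.Modules.pullback c).obj N :=
  (Scheme.Modules.pullbackComp a b).app N ≪≫ (Scheme.Modules.pullbackCongr h).app N

theorem bc_map (a : Y' ⟶ Y) {N P : Y.Modules} (u : Vp V Y ⟶ N) (t : N ⟶ P) :
    bc a (u ≫ t) = bc a u ≫ (Scheme.Modules.pullback a).map t :=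
  H26Gr.quotBC_comp_map _ u t

theorem bc_bc (a : Y'' ⟶ Y') (b : Y' ⟶ Y) {c : Y'' ⟶ Y} (h : a ≫ b = c) {N : Y.Modules} (u : Vp V Y ⟶ N) :
    bc a (bc b u) ≫ (cI a b h N).hom = bc c u := by
  subst h
  have e := H26Gr.quotBC_quotBC (π := tm Y') (specULiftZIsTerminal.hom_ext (b ≫ tm Y) (tm Y')) u
    (𝟙 ((Scheme.Modules.pullback b).obj N)) (h := a) (g := a ≫ b) rfl
    (specULiftZIsTerminal.hom_ext ((a ≫ b) ≫ tm Y) (tm Y''))
  rw [Category.comp_id] at e
  unfold bc
  rw [← e, quotBC, quotBC, CategoryTheory.Functor.map_id]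
  simp [cI, Scheme.Modules.pullbackCongr]
  have hnat : (Scheme.Modules.pullback a).map ((Scheme.Modules.pullback b).map u) ≫
      (Scheme.Modules.pullbackComp a b).hom.app N =
      (Scheme.Modules.pullbackComp a b).hom.app ((Scheme.Modules.pullback (tm Y)).obj V) ≫
        (Scheme.Modules.pullback (a ≫ b)).map u := (Scheme.Modules.pullbackComp a b).hom.naturality u
  rw [hnat, Iso.inv_hom_id_app_assoc]

theorem bc_congr {a a' : Y' ⟶ Y} (h : a = a') {N : Y.Modules} (u : Vp V Y ⟶ N) :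
    bc a u ≫ ((Scheme.Modules.pullbackCongr h).app N).hom = bc a' u := by
  subst h
  simp [Scheme.Modules.pullbackCongr]

theorem epi_bc (a : Y' ⟶ Y) {N : Y.Modules} (u : Vp V Y ⟶ N) [Epi u] : Epi (bc a u) :=
  H26Gr.epi_quotBC _ u

theorem isIso_bc (a : Y' ⟶ Y) {N : Y.Modules} (u : Vp V Y ⟶ N) [IsIso u] : IsIso (bc a u) :=
  H26Gr.isIso_quotBC _ u

theorem bc_eq (a : Y' ⟶ Y) {N : Y.Modules} (u : Vp V Y ⟶ N) :
    bc a u = bc a (𝟙 (Vp V Y)) ≫ (Scheme.Modules.pullback a).map u := by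
  rw [← bc_map, Category.id_comp]

section Pushouts

variable {C : Type*} [Category C] [Abelian C]

theorem isPushout_pullback (a : Y' ⟶ Y) {A B D P : Y.Modules} {f : A ⟶ B} {g : A ⟶ D} {x : B ⟶ P} {y : D ⟶ P}
    (h : IsPushout f g x y) :
    IsPushout ((Scheme.Modules.pullback a).map f) ((Scheme.Modules.pullback a).map g)
      ((Scheme.Modules.pullback a).map x) ((Scheme.Modules.pullback a).map y) := by
  haveI : PreservesColimitsOfSize.{0, 0} (Scheme.Modules.pullback a) :=
    (Scheme.Modules.pullbackPushforwardAdjunction a).leftAdjoint_preservesColimits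
  exact h.map (Scheme.Modules.pullback a)

/-- A square with an epimorphism on top and an isomorphism below is a pushout. -/
theorem isPushout_of_epi_isIso {A B D P : C} {f : A ⟶ B} {g : A ⟶ D} {x : B ⟶ P} {y : D ⟶ P}
    (w : f ≫ x = g ≫ y) [Epi f] [IsIso y] : IsPushout f g x y :=
  IsPushout.mk' w (fun _ _ _ _ h => (cancel_epi y).1 h) fun T a b e => ⟨inv y ≫ b, by
    rw [← cancel_epi f, reassoc_of% w, IsIso.hom_inv_id_assoc, e], by simp⟩

/-- Kernel generation from a surjection of sections: pushouts of epimorphisms by the adjoint map. -/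
theorem epi_kernel_lift {A B D : C} (a₀ : A ⟶ B) (v : B ⟶ D) [Epi a₀]
    (w : kernel (a₀ ≫ v) ⟶ kernel v) (hw : w ≫ kernel.ι v = kernel.ι (a₀ ≫ v) ≫ a₀) : Epi w := by
  rw [epi_iff_surjective_up_to_refinements]
  intro T x
  obtain ⟨T', π, hπ, y, hy⟩ := surjective_up_to_refinements_of_epi a₀ (x ≫ kernel.ι v)
  refine ⟨T', π, hπ, kernel.lift (a₀ ≫ v) y (by rw [← Category.assoc, ← hy, Category.assoc, Category.assoc,
    kernel.condition, comp_zero, comp_zero]), ?_⟩
  rw [← cancel_mono (kernel.ι v), Category.assoc, Category.assoc, hw, kernel.lift_ι_assoc, hy]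

theorem kernelSubobject_eq_of_pushout {A B D P P' : C} {f : A ⟶ B} {g : A ⟶ D} {x : B ⟶ P} {y : D ⟶ P}
    {x' : B ⟶ P'} {y' : D ⟶ P'} (h : IsPushout f g x y) (h' : IsPushout f g x' y') :
    kernelSubobject x = kernelSubobject x' := by
  rw [← h.inl_isoIsPushout_hom B D h', kernelSubobject_comp_mono]

theorem exists_pushout_epi {A B D : C} (f : A ⟶ B) (g : A ⟶ D) [Epi g] :
    ∃ (P : C) (x : B ⟶ P) (y : D ⟶ P), Epi x ∧ IsPushout f g x y :=
  ⟨pushout f g, pushout.inl f g, pushout.inr f g, inferInstance, IsPushout.of_hasPushout f g⟩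

end Pushouts

end

end Groth.Agent.H17.QuotSch
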