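import Groth.Agent.H22Alg.MumfordQuot

/-!
# Regularity of kernels of quotients with given Hilbert polynomial, uniformly over all fields
-/

set_option autoImplicit false
set_option linter.style.haveILetI false

universe u

open CategoryTheory CategoryTheory.Limits AlgebraicGeometry
open Groth.Agent.H22Alg

namespace Groth.Agent.H17.QuotSch

noncomputable section

/-- One bound, valid over every field, for the regularity of the kernels of the quotients of `O^N` on `P^n`
with given Hilbert function. -/
theorem exists_reg_kernel (n N : ℕ) (f : ℤ → ℤ) :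
    ∃ m₀ : ℤ, ∀ (k : Type u) [Field k] (E : (CohB1.ProjSpace n k).Modules)
      (g : FlatMod.freeMod (CohB1.ProjSpace n k) N ⟶ E), Coh.IsCoh E → Epi g →
      (∀ t : ℤ, Curv2.euler k (CohB1.ProjSpace n k) (CohB1.tensorMod E (Twist.twistProjSpace n k t)) = f t) →
      ∀ m : ℤ, m₀ ≤ m → CMField.Reg (fun d : ℤ => Twist.twistProjSpace n k d) (kernel g) m := by
  rcases Nat.eq_zero_or_pos n with hn | hn
  · refine ⟨0, fun k _ E g hE _ _ m _ i hi => ?_⟩
    haveI := CMHyper.noetherian k n
    exact CMField.van_high k n (by omega)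
      (H11Ample.isCoh_tensor (H10Coh.isCoh_kernel g (MumfordQuot.isCoh_free N) hE.1) ((CMField.setup k n).fam.inv _)).1
  obtain ⟨Pol, hPol⟩ := MumfordField.exists_bound.{u} N n
  let h : ℤ → ℤ := fun t => N * Ring.choose (t + n) n - f t
  refine ⟨MvPolynomial.eval (fun j : Fin (n + 1) => MumfordHilb.newton h j) Pol, fun k _ E g hE hg hE' m hm => ?_⟩
  haveI := hg
  haveI := CMHyper.noetherian k n
  haveI := MumfordBound.proper_toSpec (k := k) (n := n)
  have hK : Coh.IsCoh (kernel g) := H10Coh.isCoh_kernel g (MumfordQuot.isCoh_free N) hE.1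
  have hh : (fun r : ℤ => Curv2.euler k (CohB1.ProjSpace n k)
      (CohB1.tensorMod (kernel g) (Twist.twistProjSpace n k r))) = h := by
    funext r
    have hi := (CMField.setup k n).fam.inv r
    have := H25Euler.euler_add (k := k) (H10Coh.Tw.shortExact_seq (MumfordQuot.shortExact_kernel g) hi)
      (H11Ample.isCoh_tensor hK hi) (H11Ample.isCoh_tensor (MumfordQuot.isCoh_free N) hi) (H11Ample.isCoh_tensor hE hi)
    change Curv2.euler k _ (CohB1.tensorMod (FlatMod.freeMod _ N) _) = Curv2.euler k _ (CohB1.tensorMod (kernel g) _) +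
      Curv2.euler k _ (CohB1.tensorMod E _) at this
    simp only [h]
    rw [← MumfordHilb.euler_free_twist (k := k) N hn r, ← hE' r]
    linarith
  have hreg := hPol k (kernel g) hK ⟨kernel.ι g, inferInstance⟩ (fun j => MumfordHilb.newton h j) fun r => by
    have := MumfordHilb.euler_eq_newton hK r
    rw [hh] at this
    exact this
  obtain ⟨t, rfl⟩ := Int.le.dest hm
  exact CMField.reg_add (CMField.setup k n) hreg t

end

end Groth.Agent.H17.QuotSch
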