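import Groth.Agent.H17.QuotSch.Hilb
import Groth.Agent.H24Quot.QuotFun
import Groth.Agent.H17.PicLim.RelPic

/-!
# The classifying relation and its pullbacks
-/

set_option autoImplicit false
set_option linter.style.haveILetI false
set_option backward.isDefEq.respectTransparency false
set_option backward.isDefEq.respectTransparency.types false

universe u

open CategoryTheory CategoryTheory.Limits AlgebraicGeometry
open Groth.Agent Groth.Agent.H22Alg

namespace Groth.Agent.H17.QuotSch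

noncomputable section

variable {n p c : ℕ} {V : Zs.{u}.Modules}
  {o : Vp V Zs.{u} ⟶ (Scheme.Modules.pushforward (KRR.pr n Zs.{u})).obj (G0 n p c)}
  {G : Scheme.{u}} {Qg : G.Modules} {qG : Vp V G ⟶ Qg}
  {S X : Scheme.{u}} {i : X ⟶ CohB1.ProjSpaceOver n S} {E : X.Modules}
  {θ : (Scheme.Modules.pullback (h0 i)).obj (G0 n p c) ⟶ E}

theorem XTmap_pX {T T' : Over S} (g : T' ⟶ T) : PicF.XTmap (str i) g ≫ pX i T = pX i T' ≫ g.left :=
  pullback.lift_snd _ _ _

theorem isPullback_XTmap' {T T' : Over S} (g : T' ⟶ T) :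
    IsPullback (PicF.XTmap (str i) g) (pX i T') (pX i T) g.left :=
  H17.PicLim.isPullback_XTmap (str i) g

/-- Classifying points pull back. -/
theorem Rel.pull {T T' : Over S} (g : T' ⟶ T) {F : (PicF.XT (str i) T).Modules} {π : FGA.ET (str i) E T ⟶ F}
    {h : T.left ⟶ G} (hr : Rel o qG i θ T π h) :
    Rel o qG i θ T' (H24Quot.pullQ (str i) E g π) (g.left ≫ h) := by
  obtain ⟨ψ, hψ⟩ := hr
  haveI := isIso_bc (PicF.XTmap (str i) g) (𝟙 (Vp V (PicF.XT (str i) T)))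
  let ι := bc (PicF.XTmap (str i) g) (𝟙 (Vp V (PicF.XT (str i) T)))
  have e1 : bc (PicF.XTmap (str i) g) (evT o i θ T) ≫ (FGA.ETiso (str i) E g).hom = evT o i θ T' :=
    bc_bc (PicF.XTmap (str i) g) (aT i T) (FGA.XTmap_fst (str i) g) (evX o i θ)
  let κ := cI (PicF.XTmap (str i) g) (pX i T ≫ h) (c := pX i T' ≫ g.left ≫ h)
    (by rw [← Category.assoc, XTmap_pX, Category.assoc]) Qg
  have e2 : bc (PicF.XTmap (str i) g) (bc (pX i T ≫ h) qG) ≫ κ.hom = bc (pX i T' ≫ g.left ≫ h) qG :=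
    bc_bc _ _ _ qG
  refine ⟨κ.inv ≫ (Scheme.Modules.pullback (PicF.XTmap (str i) g)).map ψ,
    (isPushout_pullback (PicF.XTmap (str i) g) hψ).of_iso (asIso ι).symm (FGA.ETiso (str i) E g) κ (Iso.refl _)
      ?_ ?_ (by simp [H24Quot.pullQ]) (by simp)⟩
  · rw [← e1, Iso.symm_hom, asIso_inv, IsIso.eq_inv_comp, ← Category.assoc, ← bc_eq]
  · rw [Iso.symm_hom, asIso_inv, IsIso.eq_inv_comp]
    show ι ≫ _ = _
    rw [← Category.assoc ι, ← bc_eq]
    exact e2

theorem Rel.kernel_eq {T : Over S} {F F' : (PicF.XT (str i) T).Modules} {π : FGA.ET (str i) E T ⟶ F}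
    {π' : FGA.ET (str i) E T ⟶ F'} {h : T.left ⟶ G} (hr : Rel o qG i θ T π h) (hr' : Rel o qG i θ T π' h) :
    kernelSubobject π = kernelSubobject π' := by
  obtain ⟨_, hψ⟩ := hr
  obtain ⟨_, hψ'⟩ := hr'
  exact kernelSubobject_eq_of_pushout hψ hψ'

theorem Rel.congr {T : Over S} {F F' : (PicF.XT (str i) T).Modules} {π : FGA.ET (str i) E T ⟶ F}
    {π' : FGA.ET (str i) E T ⟶ F'} [Epi π] [Epi π'] {h : T.left ⟶ G} (hr : Rel o qG i θ T π h)
    (hk : kernelSubobject π = kernelSubobject π') : Rel o qG i θ T π' h := by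
  obtain ⟨φ, hφ⟩ := H24Quot.exists_iso_of_kernelSubobject_eq π π' hk
  obtain ⟨ψ, hψ⟩ := hr
  exact ⟨ψ ≫ φ.hom, hψ.of_iso (Iso.refl _) (Iso.refl _) (Iso.refl _) φ (by simp) (by simp) (by simp [hφ]) (by simp)⟩

theorem exists_rel [Epi qG] (T : Over S) (h : T.left ⟶ G) :
    ∃ (F : (PicF.XT (str i) T).Modules) (π : FGA.ET (str i) E T ⟶ F), Epi π ∧ Rel o qG i θ T π h := by
  haveI := epi_bc (pX i T ≫ h) qG
  obtain ⟨F, x, y, hx, hxy⟩ := exists_pushout_epi (evT o i θ T) (bc (pX i T ≫ h) qG)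
  exact ⟨F, x, hx, y, hxy⟩

end

end Groth.Agent.H17.QuotSch
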