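import Groth.Agent.H17.QuotSch.PSide
import Groth.Agent.H17.QuotSch.QBC
import Groth.Agent.H16Derived.QRep.FreeExtend
import Groth.Agent.H22Alg.CMGen

/-!
# The universal evaluation over `Spec ℤ` and its base changes
-/

set_option autoImplicit false
set_option linter.style.haveILetI false
set_option backward.isDefEq.respectTransparency false
set_option backward.isDefEq.respectTransparency.types false

universe u

open CategoryTheory CategoryTheory.Limits AlgebraicGeometry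
open Groth.Agent Groth.Agent.H22Alg
open Groth.Agent.H16Derived.BaseChange
attribute [local instance 10000] Groth.Agent.H10Coh.hasSheafifyAb Groth.Agent.H10Coh.hasWeakSheafifyAb Groth.Agent.H10Coh.hasExtAb Groth.Agent.H10Coh.enoughInjAb

namespace Groth.Agent.H17.QuotSch

noncomputable section

variable {n p c : ℕ}

instance isNoetherianRing_uliftInt : IsNoetherianRing (ULift.{u} ℤ) :=
  isNoetherianRing_of_ringEquiv ℤ ULift.ringEquiv.symm

instance isNoetherian_Zs : IsNoetherian Zs.{u} := inferInstanceAs (IsNoetherian (Spec (CommRingCat.of (ULift.{u} ℤ))))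

/-- `O(c)^p` over `Spec ℤ`. -/
abbrev G0 (n p c : ℕ) : (KRR.PY n Zs.{u}).Modules := cFree n p (c : ℤ) Zs

/-- A surjection of a free module onto the sections of `O(c)^p`. -/
theorem exists_evaluation (n p c : ℕ) :
    ∃ (M : ℕ) (o : Vp (FlatMod.freeMod Zs.{u} M) Zs.{u} ⟶
      (Scheme.Modules.pushforward (KRR.pr n Zs.{u})).obj (G0 n p c)), Epi o := by
  have h := RegFlat.finLocFree_push (isCoh_cFree (n := n) (T := Zs.{u}) p (c : ℤ)) (isFlatOver_cFree p _)
    (reg_cFree p c)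
  have hc := H16Derived.KFlat.Stalk.isCoh_of_isFinLocFree h
  obtain ⟨M, o, ho⟩ := H16Derived.QRep.exists_free_epi_affine hc.1 hc.2
  exact ⟨M, (MumfordStep.pullFreeIso (tm Zs.{u}) M).hom ≫ o, epi_comp _ _⟩

variable {V : Zs.{u}.Modules}
  (o : Vp V Zs.{u} ⟶ (Scheme.Modules.pushforward (KRR.pr n Zs.{u})).obj (G0 n p c))

/-- The evaluation on `P^n` over `Spec ℤ`. -/
def q0 : Vp V (KRR.PY n Zs.{u}) ⟶ G0 n p c :=
  bc (KRR.pr n Zs.{u}) o ≫ (Scheme.Modules.pullbackPushforwardAdjunction (KRR.pr n Zs.{u})).counit.app _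

theorem epi_q0 [Epi o] : Epi (q0 o) := by
  haveI := CMGen.epi_counit (isCoh_cFree (n := n) (T := Zs.{u}) p (c : ℤ)).1 (reg_cFree p c)
  haveI := epi_bc (KRR.pr n Zs.{u}) o
  exact epi_comp _ _

variable (T : Scheme.{u})

/-- `ψ : P^n_T → P^n_ℤ`. -/
abbrev ψT (n : ℕ) : KRR.PY n T ⟶ KRR.PY n Zs.{u} := KRR.projSpaceMap n (tm T)

/-- The evaluation on `P^n_T`. -/
def u0 : Vp V (KRR.PY n T) ⟶ (Scheme.Modules.pullback (ψT T n)).obj (G0 n p c) := bc (ψT T n) (q0 o)

variable {T}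

/-- The adjoint of a map out of the pullback of `V` to `P^n_T`. -/
def adjB {F : (KRR.PY n T).Modules} (u : Vp V (KRR.PY n T) ⟶ F) :
    Vp V T ⟶ (Scheme.Modules.pushforward (KRR.pr n T)).obj F :=
  haveI := isIso_bc (KRR.pr n T) (𝟙 (Vp V T))
  (Scheme.Modules.pullbackPushforwardAdjunction (KRR.pr n T)).homEquiv _ _ (inv (bc (KRR.pr n T) (𝟙 (Vp V T))) ≫ u)

theorem bc_adjB {F : (KRR.PY n T).Modules} (u : Vp V (KRR.PY n T) ⟶ F) :
    bc (KRR.pr n T) (adjB u) ≫ (Scheme.Modules.pullbackPushforwardAdjunction (KRR.pr n T)).counit.app F = u := by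
  haveI := isIso_bc (KRR.pr n T) (𝟙 (Vp V T))
  rw [bc_eq, Category.assoc]
  refine (congrArg (fun z => bc (KRR.pr n T) (𝟙 (Vp V T)) ≫ z) ?_).trans (IsIso.hom_inv_id_assoc _ u)
  exact ((Scheme.Modules.pullbackPushforwardAdjunction (KRR.pr n T)).homEquiv_counit _ _ _).symm.trans
    (Equiv.symm_apply_apply _ _)

theorem adjB_bc {L : T.Modules} {F : (KRR.PY n T).Modules} (b : Vp V T ⟶ L)
    (ψ : (Scheme.Modules.pullback (KRR.pr n T)).obj L ⟶ F) :
    adjB (bc (KRR.pr n T) b ≫ ψ) = b ≫ (Scheme.Modules.pullbackPushforwardAdjunction (KRR.pr n T)).homEquiv _ _ ψ := by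
  haveI := isIso_bc (KRR.pr n T) (𝟙 (Vp V T))
  rw [adjB, bc_eq (KRR.pr n T) b, Category.assoc, IsIso.inv_hom_id_assoc, Adjunction.homEquiv_naturality_left]

theorem adjB_comp {F F' : (KRR.PY n T).Modules} (u : Vp V (KRR.PY n T) ⟶ F) (s : F ⟶ F') :
    adjB (u ≫ s) = adjB u ≫ (Scheme.Modules.pushforward (KRR.pr n T)).map s := by
  rw [adjB, adjB, ← Category.assoc, Adjunction.homEquiv_naturality_right]

theorem adjB_bc_self {L : T.Modules} (b : Vp V T ⟶ L) :
    adjB (bc (KRR.pr n T) b) = b ≫ (Scheme.Modules.pullbackPushforwardAdjunction (KRR.pr n T)).unit.app L := by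
  rw [← Category.comp_id (bc (KRR.pr n T) b), adjB_bc, Adjunction.homEquiv_unit,
    CategoryTheory.Functor.map_id]
  erw [Category.comp_id]

theorem epi_adjB_u0 [Epi o] : Epi (adjB (u0 o T)) := by
  have hc := isCoh_cFree (n := n) (T := Zs.{u}) p (c : ℤ)
  have hf := isFlatOver_cFree (n := n) (T := Zs.{u}) p (c : ℤ)
  have hr := reg_cFree (n := n) (T := Zs.{u}) p c
  haveI := RegFlat.isIso_push_pull_ε (tm T) hc hf hr
  have hM := H16Derived.KFlat.Stalk.isFinLocFree_pullback (tm T) (RegFlat.finLocFree_push hc hf hr)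
  haveI := PnUnit.isIso_unit (n := n) _ (H8Props.FinLocFree.isQCoh_of_isFinLocFree _ hM)
  haveI := epi_bc (tm T) o
  have h1 := bc_bc (V := V) (KRR.projSpaceMap n (tm T)) (KRR.pr n Zs.{u}) (RegFlat.hsq (n := n) (tm T)) o
  have h2 := bc_bc (V := V) (KRR.pr n T) (tm T) rfl o
  rw [← h2, ← Iso.eq_comp_inv] at h1
  have he : u0 o T = bc (KRR.pr n T) (bc (tm T) o) ≫ ((cI (KRR.pr n T) (tm T) rfl _).hom ≫
      (cI (KRR.projSpaceMap n (tm T)) (KRR.pr n Zs.{u}) (RegFlat.hsq (n := n) (tm T)) _).inv) ≫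
        (Scheme.Modules.pullback (ψT T n)).map (SyzPn.ε n Zs.{u} (G0 n p c)) := by
    rw [u0, q0, bc_map, h1]
    simp only [Category.assoc]
  rw [he, adjB_bc, Adjunction.homEquiv_unit, Functor.map_comp]
  exact epi_comp' inferInstance (epi_comp' inferInstance (epi_comp' inferInstance
    (inferInstanceAs (Epi ((Scheme.Modules.pushforward (KRR.pr n T)).map
      ((BCReg.Ψ n (tm T)).map (SyzPn.ε n Zs.{u} (G0 n p c))))))))

variable [IsLocallyNoetherian T] {f : ℤ → ℤ}

theorem nonempty_pull_G0 : Nonempty ((Scheme.Modules.pullback (ψT T n)).obj (G0 n p c) ≅ cFree n p (c : ℤ) T) := by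
  obtain ⟨e⟩ := nonempty_pullback_cFree (n := n) (T := Zs.{u}) (ψT T n) p (c : ℤ)
  obtain ⟨e'⟩ := BCReg.nonempty_pull_twist (n := n) (tm T) (c : ℤ)
  exact ⟨e ≪≫ PicGrp.tensorModIso (Iso.refl _) e'⟩

/-- Quotients of `O(c)^p` on `P^n_T` are recovered from the quotients of sections. -/
theorem py_main [Epi o] (hb : IsBound.{u} n p c f) {F : (KRR.PY n T).Modules}
    (s : (Scheme.Modules.pullback (ψT T n)).obj (G0 n p c) ⟶ F) [Epi s] (hF : Coh.IsCoh F)
    (hfl : FlatMod.IsFlatOver (KRR.pr n T) F)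
    (hf : ∀ (t : T) (m : ℤ),
      HilbertFlat.fibEuler (KRR.pr n T) (CohB1.tensorMod F (Twist.twistOver n T m)) t = f m)
    (r : ℕ) (hr : (r : ℤ) = f 0) :
    FlatMod.IsFinLocFreeOfRank r ((Scheme.Modules.pushforward (KRR.pr n T)).obj F) ∧
      Epi (adjB (u0 o T ≫ s)) ∧
      IsPushout (u0 o T) (bc (KRR.pr n T) (adjB (u0 o T ≫ s))) s
        ((Scheme.Modules.pullbackPushforwardAdjunction (KRR.pr n T)).counit.app F) := by
  obtain ⟨eG⟩ := nonempty_pull_G0 (n := n) (p := p) (c := c) (T := T)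
  obtain ⟨-, hrk', hps, hcK, -⟩ := quot_facts hb eG s hF hfl hf
  have hrk := hrk' r hr
  haveI := hps
  haveI := hcK
  haveI := epi_adjB_u0 (T := T) o
  let a₀ := adjB (u0 o T)
  let v := (Scheme.Modules.pushforward (KRR.pr n T)).map s
  let a := adjB (u0 o T ≫ s)
  have ha : a = a₀ ≫ v := adjB_comp _ _
  haveI hea : Epi a := by rw [ha]; infer_instance
  let ε := (Scheme.Modules.pullbackPushforwardAdjunction (KRR.pr n T)).counit
  have w : u0 o T ≫ s = bc (KRR.pr n T) a ≫ ε.app F := (bc_adjB _).symm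
  haveI := epi_bc (KRR.pr n T) a
  refine ⟨hrk, hea, IsPushout.mk' w (fun _ _ _ h _ => (cancel_epi s).1 h) fun Z x y e => ?_⟩
  haveI : (Scheme.Modules.pushforward (KRR.pr n T)).IsRightAdjoint :=
    (Scheme.Modules.pullbackPushforwardAdjunction (KRR.pr n T)).isRightAdjoint
  haveI : (Scheme.Modules.pullback (KRR.pr n T)).PreservesEpimorphisms :=
    Functor.preservesEpimorphisms_of_adjunction (Scheme.Modules.pullbackPushforwardAdjunction (KRR.pr n T))
  have hK : kernel.ι s ≫ x = 0 := by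
    let φ := PreservesKernel.iso (Scheme.Modules.pushforward (KRR.pr n T)) s
    have hφ : φ.hom ≫ kernel.ι v = (Scheme.Modules.pushforward (KRR.pr n T)).map (kernel.ι s) :=
      kernelComparison_comp_ι _ _
    let w' : kernel (a₀ ≫ v) ⟶ kernel v := kernel.lift v (kernel.ι (a₀ ≫ v) ≫ a₀) (by
      rw [Category.assoc, kernel.condition])
    haveI : Epi w' := epi_kernel_lift a₀ v w' (kernel.lift_ι _ _ _)
    let w'' := w' ≫ φ.inv
    have hw : w'' ≫ (Scheme.Modules.pushforward (KRR.pr n T)).map (kernel.ι s) = kernel.ι (a₀ ≫ v) ≫ a₀ := by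
      rw [← hφ]; simp [w'', w']
    rw [← cancel_epi (ε.app (kernel s)), ← cancel_epi ((Scheme.Modules.pullback (KRR.pr n T)).map w''), comp_zero,
      comp_zero]
    have hn : ε.app (kernel s) ≫ kernel.ι s =
        (Scheme.Modules.pullback (KRR.pr n T)).map ((Scheme.Modules.pushforward (KRR.pr n T)).map (kernel.ι s)) ≫
          ε.app _ := (ε.naturality (kernel.ι s)).symm
    rw [reassoc_of% hn, ← Functor.map_comp_assoc, hw, Functor.map_comp_assoc]
    haveI := isIso_bc (KRR.pr n T) (𝟙 (Vp V T))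
    have h0 : (Scheme.Modules.pullback (KRR.pr n T)).map a₀ ≫ ε.app _ =
        inv (bc (KRR.pr n T) (𝟙 (Vp V T))) ≫ u0 o T := by
      rw [IsIso.eq_inv_comp, ← Category.assoc, ← bc_eq]
      exact bc_adjB _
    rw [reassoc_of% h0, e, bc_eq (KRR.pr n T) (adjB (u0 o T ≫ s)), Category.assoc, IsIso.inv_hom_id_assoc, ← Functor.map_comp_assoc,
      show adjB (u0 o T ≫ s) = a₀ ≫ v from ha, kernel.condition, Functor.map_zero, zero_comp]
  obtain ⟨l, hl⟩ : ∃ l, s ≫ l = x := ⟨Abelian.epiDesc s x hK, Abelian.comp_epiDesc _ _ _⟩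
  refine ⟨l, hl, ?_⟩
  rw [← cancel_epi (bc (KRR.pr n T) a), ← Category.assoc, ← w, Category.assoc, hl, e]

end

end Groth.Agent.H17.QuotSch
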